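import Cfsg.Agent.Lib.JFour.TwoTen.Frames
import Cfsg.Agent.Lib.JFour.Complement

/-!
# Self-centralizing elementary abelian `2 ^ 10`: the normalizer splits over it
-/

set_option autoImplicit false
set_option linter.unusedSectionVars false
set_option linter.style.haveILetI false

open Cfsg

namespace CfsgLib.JFour.TwoTen

open CfsgLib.GolayStructure

variable {G : Type*} [Group G] {z : G} {V A : Subgroup G} {p : GolayPt → G}
  {q : ↥(Subgroup.normalizer (V : Set G)) →* Equiv.Perm GolayPt} {o : Finset GolayPt}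

variable (M : Model z V p q)
include M

/-- Conjugation of a pair, the diagonal included. -/
theorem act_pair (n : ↥(Subgroup.normalizer (V : Set G))) (a b : GolayPt) :
    (n : G) * (p a * p b) * (n : G)⁻¹ = p (q n a) * p (q n b) := by
  by_cases h : a = b
  · rw [h, M.sq (M.mem b), M.sq (M.mem _), mul_one, mul_inv_cancel]
  · exact M.act n a b h

/-- The lift twisted by the translations from a base point. -/
def twist (x : GolayPt) : ↥(Subgroup.normalizer (V : Set G)) →* G where
  toFun n := p x * p (q n x) * (n : G)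
  map_one' := by
    rw [map_one, Equiv.Perm.one_apply, M.sq (M.mem x), Subgroup.coe_one, one_mul]
  map_mul' m n := by
    symm
    calc p x * p (q m x) * (m : G) * (p x * p (q n x) * (n : G))
        = p x * p (q m x) * ((m : G) * (p x * p (q n x)) * (m : G)⁻¹) * ((m : G) * (n : G)) := by group
      _ = p x * p (q (m * n) x) * ((m * n : ↥(Subgroup.normalizer (V : Set G))) : G) := by
        rw [act_pair M, M.duad_mul, map_mul, Equiv.Perm.mul_apply, Subgroup.coe_mul]

theorem twist_apply (x : GolayPt) (n : ↥(Subgroup.normalizer (V : Set G))) :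
    twist M x n = p x * p (q n x) * (n : G) := rfl

/-- A complement of `V` maps onto the code group. -/
theorem exists_lift_mem {K : Subgroup G} (hKN : K ≤ Subgroup.normalizer (V : Set G))
    (hKs : K ⊔ V = Subgroup.normalizer (V : Set G)) {s : Equiv.Perm GolayPt} (hs : s ∈ Cfsg.M24) :
    ∃ k : ↥(Subgroup.normalizer (V : Set G)), (k : G) ∈ K ∧ q k = s := by
  have h : (K.subgroupOf (Subgroup.normalizer (V : Set G))).map q = q.range := by
    have h1 := congrArg (Subgroup.map q) (Subgroup.subgroupOf_sup hKN (Subgroup.le_normalizer (H := V)))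
    rw [hKs, Subgroup.subgroupOf_self, ← MonoidHom.range_eq_map, Subgroup.map_sup] at h1
    have h2 : (V.subgroupOf (Subgroup.normalizer (V : Set G))).map q = ⊥ := by
      rw [← M.ker, Subgroup.map_eq_bot_iff]
    rw [h2, sup_bot_eq] at h1
    exact h1.symm
  rw [← M.range, ← h] at hs
  obtain ⟨k, hk, rfl⟩ := hs
  exact ⟨k, hk, rfl⟩

variable (O : Orbits z p q o A)
include O

/-- A lift in `K` of an element of the octad group normalizes `A`. -/
theorem lift_mem_normalizer [Finite G] {K : Subgroup G} (hKN : K ≤ Subgroup.normalizer (V : Set G))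
    (hKs : K ⊔ V = Subgroup.normalizer (V : Set G))
    (hAK : ∀ k : ↥(Subgroup.normalizer (V : Set G)), (k : G) ∈ K → q k ∈ octadKernel o → (k : G) ∈ A)
    (k : ↥(Subgroup.normalizer (V : Set G))) (hk : (k : G) ∈ K) (hqk : q k ∈ octadGroup o) :
    (k : G) ∈ Subgroup.normalizer (A : Set G) := by
  have key : ∀ k : ↥(Subgroup.normalizer (V : Set G)), (k : G) ∈ K → q k ∈ octadGroup o →
      ∀ a ∈ A, (k : G) * a * (k : G)⁻¹ ∈ A := by
    intro k hk hqk a ha
    set a' : ↥(Subgroup.normalizer (V : Set G)) := ⟨a, O.above.le ha⟩ with ha'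
    have hf := O.above.image a' ha
    obtain ⟨t, ht, hqt⟩ := exists_lift_mem M hKN hKs (mem_octadKernel.1 hf).1
    have htA : (t : G) ∈ A := hAK t ht (hqt ▸ hf)
    have hdV : (t : G)⁻¹ * a ∈ V := by
      have := (M.q_eq_one_iff (t⁻¹ * a')).1 (by rw [map_mul, map_inv, hqt, inv_mul_cancel])
      exact this
    have hd : (t : G)⁻¹ * a ∈ octSpan p o := by
      rw [← O.above.inf]; exact Subgroup.mem_inf.2 ⟨mul_mem (inv_mem htA) ha, hdV⟩
    have h1 := M.octSpan_map k (o' := o) (fun y hy => (octad_mem_iff hqk y).2 hy) hd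
    have h2 : (k : G) * t * (k : G)⁻¹ ∈ A :=
      hAK (k * t * k⁻¹) (mul_mem (mul_mem hk ht) (inv_mem hk))
        (by rw [map_mul, map_mul, map_inv, hqt]; exact conj_mem_kernel hqk hf)
    rw [← O.above.inf] at h1
    have h3 := mul_mem h2 h1.1
    rwa [show (k : G) * t * (k : G)⁻¹ * ((k : G) * ((t : G)⁻¹ * a) * (k : G)⁻¹) = k * a * (k : G)⁻¹ by group]
      at h3
  refine Subgroup.mem_normalizer_iff.2 fun a => ⟨key k hk hqk a, fun h => ?_⟩
  have := key k⁻¹ (inv_mem hk) (by rw [map_inv]; exact inv_mem hqk) _ h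
  simpa [mul_assoc] using this

/-- `N(A)` splits over `A`. -/
theorem complement [Finite G]
    (hK : ∃ K : Subgroup G, K ≤ Subgroup.normalizer (V : Set G) ∧ K ⊓ V = ⊥ ∧
      K ⊔ V = Subgroup.normalizer (V : Set G) ∧
      ∀ k : ↥(Subgroup.normalizer (V : Set G)), (k : G) ∈ K → q k ∈ octadKernel o → (k : G) ∈ A) :
    ∃ B : Subgroup G, B ≤ Subgroup.normalizer (A : Set G) ∧ B ⊓ A = ⊥ ∧
      B ⊔ A = Subgroup.normalizer (A : Set G) := by
  classical
  obtain ⟨K, hKN, hKi, hKs, hAK⟩ := hK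
  obtain ⟨x, hx⟩ := exists_not_mem O.above.oct
  let L : Subgroup ↥(Subgroup.normalizer (V : Set G)) :=
    K.subgroupOf (Subgroup.normalizer (V : Set G)) ⊓ (octadGroup o).comap q
  have hqinj : ∀ k ∈ L, q k = 1 → k = 1 := fun k hk h => Subtype.ext (Subgroup.mem_bot.1
    (hKi ▸ ⟨hk.1, (M.q_eq_one_iff k).1 h⟩ : (k : G) ∈ (⊥ : Subgroup G)))
  have hcL : Nat.card ↥L = 2 ^ 10 * 315 := by
    let θ : ↥L → ↥(octadGroup o) := fun k => ⟨q k, k.2.2⟩
    have hθ : Function.Bijective θ := by
      refine ⟨fun k l h => ?_, fun s => ?_⟩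
      · have h' : q (k : ↥(Subgroup.normalizer (V : Set G))) = q l := congrArg Subtype.val h
        exact Subtype.ext (inv_mul_eq_one.1 (hqinj _ (mul_mem (inv_mem k.2) l.2)
          (by rw [map_mul, map_inv, h', inv_mul_cancel])))
      · obtain ⟨k, hk, e⟩ := exists_lift_mem M hKN hKs (mem_octadGroup.1 s.2).1
        exact ⟨⟨k, hk, by show q k ∈ octadGroup o; rw [e]; exact s.2⟩, Subtype.ext e⟩
    rw [Nat.card_congr (Equiv.ofBijective θ hθ), card_octadGroup O.above.oct]
    norm_num
  set B₀ := L.map (twist M x) with hB₀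
  have hBN : B₀ ≤ Subgroup.normalizer (A : Set G) := by
    rintro _ ⟨k, hk, rfl⟩
    exact mul_mem (O.outside x (q k x) hx fun e => hx ((octad_mem_iff hk.2 x).1 e))
      (lift_mem_normalizer M O hKN hKs hAK k hk.1 hk.2)
  have hzero : ∀ k ∈ L, twist M x k ∈ A → k = 1 := by
    intro k hk hA'
    set u : ↥(Subgroup.normalizer (V : Set G)) := ⟨_, O.above.le hA'⟩ with hu
    have hqu : q u = q k := by
      have he : u = ⟨p x * p (q k x), M.le_normalizer (M.duad_mem _ _)⟩ * k := Subtype.ext rfl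
      rw [he, map_mul, (M.q_eq_one_iff _).2 (M.duad_mem _ _), one_mul]
    have hf : q k ∈ octadKernel o := hqu ▸ O.above.image u hA'
    have hkA := hAK k hk.1 hf
    by_cases h1 : q k = 1
    · exact hqinj k hk h1
    · refine absurd ?_ (outside_not_mem M O hx hf h1)
      have := mul_mem hA' (inv_mem hkA)
      rwa [twist_apply, mul_inv_cancel_right] at this
  have hBA : B₀ ⊓ A = ⊥ := by
    rw [eq_bot_iff]
    rintro _ ⟨⟨k, hk, rfl⟩, hA'⟩
    rw [Subgroup.mem_bot, hzero k hk hA', map_one]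
  have hcB : Nat.card ↥B₀ = 2 ^ 10 * 315 := by
    rw [← hcL]
    refine (Nat.card_congr (Equiv.ofBijective (fun k : ↥L => (⟨_, k.1, k.2, rfl⟩ : ↥B₀)) ⟨fun k l h => ?_, ?_⟩)).symm
    · have h' : twist M x k = twist M x l := congrArg Subtype.val h
      exact Subtype.ext (inv_mul_eq_one.1 (hzero _ (mul_mem (inv_mem k.2) l.2) (by
        rw [map_mul, map_inv, h', inv_mul_cancel]; exact one_mem _)))
    · rintro ⟨_, k, hk, rfl⟩
      exact ⟨⟨k, hk⟩, rfl⟩
  haveI : Fact (Nat.Prime 2) := ⟨Nat.prime_two⟩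
  obtain ⟨S, hS⟩ := Sylow.exists_subgroup_card_pow_prime 2 (G := ↥B₀) (n := 10) (by rw [hcB]; exact dvd_mul_right _ _)
  obtain ⟨C, hCN, hCA, hCs, -⟩ := CfsgLib.JFour.exists_complement_of_twoGroup (V := A) (K := S.map B₀.subtype)
    (a := 10) (b := 10) (m := 9765) O.ten.elem O.ten.card
    (by rw [card_normalizer M O]; norm_num) (by norm_num)
    ((Subgroup.map_subtype_le S).trans hBN)
    ((Nat.card_congr (S.equivMapOfInjective _ B₀.subtype_injective).toEquiv).symm.trans hS)
    (le_bot_iff.1 (hBA ▸ inf_le_inf_right A (Subgroup.map_subtype_le S)))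
  exact ⟨C, hCN, hCA, hCs⟩

end CfsgLib.JFour.TwoTen
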