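import Cfsg.Agent.Lib.JFour.TwoTen.Model
import Cfsg.Agent.Lib.JFour.TwoTen.Octad

/-!
# Self-centralizing elementary abelian subgroups of order `2 ^ 10`: definitions and interfaces
-/

set_option autoImplicit false

open Cfsg

namespace CfsgLib.JFour.TwoTen

variable {G : Type*} [Group G]

/-- The subgroup spanned by the pairs of labels inside a set of points. -/
def octSpan (p : GolayPt → G) (o : Finset GolayPt) : Subgroup G :=
  Subgroup.closure {x | ∃ a ∈ o, ∃ b ∈ o, a ≠ b ∧ x = p a * p b}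

theorem duad_mem_octSpan (p : GolayPt → G) {o : Finset GolayPt} {a b : GolayPt} (ha : a ∈ o) (hb : b ∈ o)
    (hab : a ≠ b) : p a * p b ∈ octSpan p o :=
  Subgroup.subset_closure ⟨a, ha, b, hb, hab, rfl⟩

/-- An elementary abelian subgroup of order `2 ^ 10` equal to its centralizer. -/
structure IsTen (A : Subgroup G) : Prop where
  elem : Cfsg.IsElementaryAbelian 2 A
  card : Nat.card ↥A = 2 ^ 10
  self : Subgroup.centralizer (A : Set G) = A

/-- `A` is the subgroup of order `2 ^ 10` of `N(V)` lying over the kernel of the octad `o`. -/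
structure Over {V : Subgroup G} (p : GolayPt → G) (q : ↥(Subgroup.normalizer (V : Set G)) →* Equiv.Perm GolayPt)
    (o : Finset GolayPt) (A : Subgroup G) : Prop where
  oct : o ∈ octads
  le : A ≤ Subgroup.normalizer (V : Set G)
  inf : A ⊓ V = octSpan p o
  image : ∀ a : ↥(Subgroup.normalizer (V : Set G)), (a : G) ∈ A →
    q a ∈ CfsgLib.GolayStructure.octadKernel o
  onto : ∀ f ∈ CfsgLib.GolayStructure.octadKernel o,
    ∃ a : ↥(Subgroup.normalizer (V : Set G)), (a : G) ∈ A ∧ q a = f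

/-- The conjugates of `V` normalized by `A`. -/
def frames (V A : Subgroup G) : Set (Subgroup G) :=
  {W | (∃ g : G, V.map (MulAut.conj g).toMonoidHom = W) ∧ A ≤ Subgroup.normalizer (W : Set G)}

/-- The elements of the class of `z` in `A`. -/
def zPart (z : G) (A : Subgroup G) : Set G := {v | v ∈ A ∧ IsConj z v}

/-- The orbit facts of `N(A)` used for its identification. -/
structure Orbits {V : Subgroup G} (z : G) (p : GolayPt → G)
    (q : ↥(Subgroup.normalizer (V : Set G)) →* Equiv.Perm GolayPt) (o : Finset GolayPt) (A : Subgroup G) :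
    Prop where
  ten : IsTen A
  above : Over p q o A
  card_inf : Nat.card ↥(V ⊓ Subgroup.normalizer (A : Set G)) = 2 ^ 10
  outside : ∀ x y, x ∉ o → y ∉ o → p x * p y ∈ Subgroup.normalizer (A : Set G)
  image : ∀ n : ↥(Subgroup.normalizer (V : Set G)), (n : G) ∈ Subgroup.normalizer (A : Set G) →
    q n ∈ CfsgLib.GolayStructure.octadGroup o
  lift : ∀ s ∈ CfsgLib.GolayStructure.octadGroup o, ∃ n : ↥(Subgroup.normalizer (V : Set G)),
    (n : G) ∈ Subgroup.normalizer (A : Set G) ∧ q n = s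
  card_z : (zPart z A).ncard = 155
  card_other : {v | v ∈ A ∧ v ≠ 1 ∧ ¬ IsConj z v}.ncard = 868
  trans_z : ∀ u ∈ zPart z A, ∀ v ∈ zPart z A, ∃ n ∈ Subgroup.normalizer (A : Set G), n * u * n⁻¹ = v
  trans_other : ∀ u ∈ A, u ≠ 1 → ¬ IsConj z u → ∀ v ∈ A, v ≠ 1 → ¬ IsConj z v →
    ∃ n ∈ Subgroup.normalizer (A : Set G), n * u * n⁻¹ = v
  card_z_inf : (zPart z (A ⊓ V)).ncard = 35
  card_frames : (frames V A).ncard = 31
  trans_frames : ∀ W ∈ frames V A, ∃ n ∈ Subgroup.normalizer (A : Set G),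
    V.map (MulAut.conj n).toMonoidHom = W
  unique_frame : ∀ u ∈ A, u ≠ 1 → ¬ IsConj z u → ∃! W, W ∈ frames V A ∧ u ∈ W
  z_frames : ∀ u ∈ zPart z A, {W | W ∈ frames V A ∧ u ∈ W}.ncard = 7

end CfsgLib.JFour.TwoTen
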