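import Cfsg.Agent.Lib.JFour.TwoTen.Defs

/-!
# Self-centralizing elementary abelian `2 ^ 10`: irreducibility and the kernel on the frames
-/

set_option autoImplicit false

open Cfsg

namespace CfsgLib.JFour.TwoTen

open CfsgLib.GolayStructure

variable {G : Type*} [Group G] {z : G} {V A : Subgroup G} {p : GolayPt → G}
  {q : ↥(Subgroup.normalizer (V : Set G)) →* Equiv.Perm GolayPt} {o : Finset GolayPt}

theorem conj_map_mem {W : Subgroup G} {n x : G} :
    x ∈ W.map (MulAut.conj n).toMonoidHom ↔ n⁻¹ * x * n ∈ W := by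
  constructor
  · rintro ⟨y, hy, rfl⟩
    simpa [mul_assoc] using hy
  · intro h
    exact ⟨_, h, by simp [mul_assoc]⟩

theorem conj_map_map (W : Subgroup G) (m n : G) :
    (W.map (MulAut.conj n).toMonoidHom).map (MulAut.conj m).toMonoidHom =
      W.map (MulAut.conj (m * n)).toMonoidHom := by
  ext x
  simp [conj_map_mem, mul_assoc]

theorem conj_mem_of_normalizer {W : Subgroup G} {n : G} (hn : n ∈ Subgroup.normalizer (W : Set G)) {x : G}
    (hx : x ∈ W) : n * x * n⁻¹ ∈ W :=
  (Subgroup.mem_normalizer_iff.1 hn x).1 hx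

theorem map_conj_eq {W : Subgroup G} {n : G} (hn : n ∈ Subgroup.normalizer (W : Set G)) :
    W.map (MulAut.conj n).toMonoidHom = W := by
  ext x
  rw [conj_map_mem]
  exact (Subgroup.mem_normalizer_iff''.1 hn x).symm

theorem mem_normalizer_of_map_conj_eq {W : Subgroup G} {n : G}
    (h : W.map (MulAut.conj n).toMonoidHom = W) : n ∈ Subgroup.normalizer (W : Set G) := by
  refine Subgroup.mem_normalizer_iff''.2 fun x => ?_
  conv_lhs => rw [← h]
  exact conj_map_mem

theorem frames_conj {W : Subgroup G} (hW : W ∈ frames V A) {n : G}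
    (hn : n ∈ Subgroup.normalizer (A : Set G)) :
    W.map (MulAut.conj n).toMonoidHom ∈ frames V A := by
  obtain ⟨⟨g, rfl⟩, hA⟩ := hW
  refine ⟨⟨n * g, (conj_map_map V n g).symm⟩, fun a ha => mem_normalizer_of_map_conj_eq ?_⟩
  have hb : n⁻¹ * a * n ∈ Subgroup.normalizer ((V.map (MulAut.conj g).toMonoidHom : Subgroup G) : Set G) :=
    hA ((Subgroup.mem_normalizer_iff''.1 hn a).1 ha)
  rw [conj_map_map, show a * n = n * (n⁻¹ * a * n) by group, ← conj_map_map, map_conj_eq hb]

theorem conj_mem_A {n a : G} (hn : n ∈ Subgroup.normalizer (A : Set G)) (ha : a ∈ A) : n * a * n⁻¹ ∈ A :=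
  conj_mem_of_normalizer hn ha

section

variable (M : Model z V p q) (O : Orbits z p q o A)
include O

theorem A_le : A ≤ Subgroup.normalizer (V : Set G) ⊓ Subgroup.normalizer (A : Set G) :=
  le_inf O.above.le Subgroup.le_normalizer

theorem V_mem_frames : V ∈ frames V A :=
  ⟨⟨1, map_conj_eq (one_mem _)⟩, O.above.le⟩

theorem duad_mem_inf {a b : GolayPt} (ha : a ∈ o) (hb : b ∈ o) (hab : a ≠ b) : p a * p b ∈ A ⊓ V :=
  O.above.inf ▸ duad_mem_octSpan p ha hb hab

theorem comm_A {a b : G} (ha : a ∈ A) (hb : b ∈ A) : a * b = b * a :=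
  congrArg Subtype.val (O.ten.elem.1.is_comm.comm (⟨a, ha⟩ : ↥A) ⟨b, hb⟩)

theorem mem_A_of_comm {x : G} (h : ∀ a ∈ A, a * x = x * a) : x ∈ A :=
  O.ten.self ▸ Subgroup.mem_centralizer_iff.2 h

/-- The normalizer of `A` leaves no proper nontrivial subgroup of `A` invariant. -/
theorem irreducible [Finite G] {W : Subgroup G} (hW : W ≤ A)
    (h : Subgroup.normalizer (A : Set G) ≤ Subgroup.normalizer (W : Set G)) : W = ⊥ ∨ W = A := by
  classical
  have hz : ∀ u ∈ zPart z A, u ∈ W → zPart z A ⊆ (W : Set G) := fun u hu huW v hv => by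
    obtain ⟨n, hn, rfl⟩ := O.trans_z u hu v hv
    exact conj_mem_of_normalizer (h hn) huW
  let T : Set G := {v | v ∈ A ∧ v ≠ 1 ∧ ¬ IsConj z v}
  have ht : ∀ u ∈ T, u ∈ W → T ⊆ (W : Set G) := fun u hu huW v hv => by
    obtain ⟨n, hn, rfl⟩ := O.trans_other u hu.1 hu.2.1 hu.2.2 v hv.1 hv.2.1 hv.2.2
    exact conj_mem_of_normalizer (h hn) huW
  by_cases h1 : ∃ u ∈ zPart z A, u ∈ W
  · obtain ⟨u, hu, huW⟩ := h1
    have hsub := hz u hu huW
    by_cases h2 : ∃ v ∈ T, v ∈ W
    · obtain ⟨v, hv, hvW⟩ := h2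
      refine Or.inr (le_antisymm hW fun x hx => ?_)
      by_cases e : x = 1
      · exact e ▸ W.one_mem
      by_cases hc : IsConj z x
      · exact hsub ⟨hx, hc⟩
      · exact ht v hv hvW ⟨hx, e, hc⟩
    · exfalso
      push Not at h2
      have hz1 : (1 : G) ∉ zPart z A := fun hm => by
        have hone : z = 1 := isConj_one_left.1 hm.2
        have : zPart z A ⊆ {1} := fun w hw => by
          have h2 := hw.2
          rw [hone] at h2
          exact isConj_one_right.1 h2
        have := Set.ncard_le_ncard this (Set.finite_singleton 1)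
        rw [O.card_z, Set.ncard_singleton] at this
        omega
      have heq : (W : Set G) = insert 1 (zPart z A) := by
        ext x
        refine ⟨fun hx => ?_, ?_⟩
        · by_cases e : x = 1
          · exact Or.inl e
          by_cases hc : IsConj z x
          · exact Or.inr ⟨hW hx, hc⟩
          · exact absurd hx (h2 x ⟨hW hx, e, hc⟩)
        · rintro (rfl | hx)
          exacts [W.one_mem, hsub hx]
      have hc : Nat.card ↥W = 156 := by
        rw [← SetLike.coe_sort_coe, Nat.card_coe_set_eq, heq, Set.ncard_insert_of_notMem hz1 (Set.toFinite _),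
          O.card_z]
      have := Subgroup.card_dvd_of_le hW
      rw [hc, O.ten.card] at this
      norm_num at this
  · push Not at h1
    by_cases h2 : ∃ v ∈ T, v ∈ W
    · exfalso
      obtain ⟨v, hv, hvW⟩ := h2
      have heq : (W : Set G) = insert 1 T := by
        ext x
        refine ⟨fun hx => ?_, ?_⟩
        · by_cases e : x = 1
          · exact Or.inl e
          · exact Or.inr ⟨hW hx, e, fun hc => h1 x ⟨hW hx, hc⟩ hx⟩
        · rintro (rfl | hx)
          exacts [W.one_mem, ht v hv hvW hx]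
      have hc : Nat.card ↥W = 869 := by
        rw [← SetLike.coe_sort_coe, Nat.card_coe_set_eq, heq,
          Set.ncard_insert_of_notMem (fun hm => hm.2.1 rfl) (Set.toFinite _), O.card_other]
      have := Subgroup.card_dvd_of_le hW
      rw [hc, O.ten.card] at this
      norm_num at this
    · push Not at h2
      refine Or.inl ((Subgroup.eq_bot_iff_forall W).2 fun x hx => ?_)
      by_contra e
      by_cases hc : IsConj z x
      · exact h1 x ⟨hW hx, hc⟩ hx
      · exact h2 x ⟨hW hx, e, hc⟩ hx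

/-- The restriction to the octad of the normalizer of `V` and `A`. -/
def restr : ↥(Subgroup.normalizer (V : Set G) ⊓ Subgroup.normalizer (A : Set G)) →* alternatingGroup ↥o :=
  ((octadRestrict o).comp ((q.comp (Subgroup.inclusion inf_le_left)).codRestrict (octadGroup o)
    fun n => O.image _ n.2.2)).codRestrict (alternatingGroup ↥o) fun n => by
      rw [← octadRestrict_range O.above.oct]
      exact ⟨_, rfl⟩

theorem restr_apply (n : ↥(Subgroup.normalizer (V : Set G) ⊓ Subgroup.normalizer (A : Set G))) (x : ↥o) :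
    (((restr O n : ↥(alternatingGroup ↥o)) : Equiv.Perm ↥o) x : GolayPt) = q ⟨n, n.2.1⟩ x := rfl

theorem restr_surjective : Function.Surjective (restr O) := fun π => by
  obtain ⟨s, hs, hsx⟩ := exists_even_lift O.above.oct π.2
  obtain ⟨n, hn, hq⟩ := O.lift s hs
  refine ⟨⟨n, n.2, hn⟩, Subtype.ext (Equiv.Perm.ext fun x => Subtype.ext ?_)⟩
  rw [restr_apply]
  show q n x = _
  rw [hq, hsx]

theorem restr_eq_one_iff (n : ↥(Subgroup.normalizer (V : Set G) ⊓ Subgroup.normalizer (A : Set G))) :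
    restr O n = 1 ↔ q ⟨n, n.2.1⟩ ∈ octadKernel o := by
  constructor
  · intro h
    refine mem_octadKernel.2 ⟨(mem_octadGroup.1 (O.image _ n.2.2)).1, fun x hx => ?_⟩
    have := restr_apply O n ⟨x, hx⟩
    rw [h] at this
    exact this.symm
  · intro h
    exact Subtype.ext (Equiv.Perm.ext fun x => Subtype.ext (by
      rw [restr_apply]; exact (mem_octadKernel.1 h).2 x x.2))

include M

/-- Over the kernel of the octad, an element is an element of `A` times one of `V`. -/
theorem exists_mul {n : G} (hn : n ∈ Subgroup.normalizer (V : Set G) ⊓ Subgroup.normalizer (A : Set G))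
    (h : q ⟨n, hn.1⟩ ∈ octadKernel o) :
    ∃ a ∈ A, ∃ t ∈ V ⊓ Subgroup.normalizer (A : Set G), n = a * t := by
  obtain ⟨a, ha, hqa⟩ := O.above.onto _ h
  refine ⟨a, ha, (a : G)⁻¹ * n, Subgroup.mem_inf.2 ⟨?_,
    mul_mem (inv_mem (Subgroup.le_normalizer ha : (a : G) ∈ Subgroup.normalizer (A : Set G))) hn.2⟩, by group⟩
  have h1 : q (a⁻¹ * ⟨n, hn.1⟩) = 1 := by rw [map_mul, map_inv, hqa, inv_mul_cancel]
  exact (M.q_eq_one_iff _).1 h1

/-- Only `A` fixes every frame. -/
theorem mem_of_fix [Finite G] {k : G} (hk : k ∈ Subgroup.normalizer (A : Set G))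
    (hfix : ∀ W ∈ frames V A, k ∈ Subgroup.normalizer (W : Set G)) : k ∈ A := by
  classical
  have ho := O.above.oct
  set NA := Subgroup.normalizer (A : Set G) with hNA
  set R := Subgroup.normalizer (V : Set G) ⊓ NA with hR
  let Kf : Subgroup G :=
    { carrier := {g | g ∈ NA ∧ ∀ W ∈ frames V A, g ∈ Subgroup.normalizer (W : Set G)}
      one_mem' := ⟨one_mem _, fun _ _ => one_mem _⟩
      mul_mem' := fun ha hb => ⟨mul_mem ha.1 hb.1, fun W hW => mul_mem (ha.2 W hW) (hb.2 W hW)⟩
      inv_mem' := fun ha => ⟨inv_mem ha.1, fun W hW => inv_mem (ha.2 W hW)⟩ }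
  have hKR : Kf ≤ R := fun g hg => ⟨hg.2 V (V_mem_frames O), hg.1⟩
  have hKn : ∀ n ∈ NA, ∀ g ∈ Kf, n * g * n⁻¹ ∈ Kf := by
    intro n hn g hg
    refine ⟨mul_mem (mul_mem hn hg.1) (inv_mem hn), fun W hW => mem_normalizer_of_map_conj_eq ?_⟩
    have h1 := map_conj_eq (hg.2 _ (frames_conj hW (inv_mem hn)))
    rw [conj_map_map] at h1
    have h2 := congrArg (fun X : Subgroup G => X.map (MulAut.conj n).toMonoidHom) h1
    simp only [conj_map_map] at h2
    rw [mul_inv_cancel, map_conj_eq (one_mem _)] at h2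
    rw [mul_assoc]
    exact h2
  let KR : Subgroup ↥R := Kf.subgroupOf R
  haveI : KR.Normal := ⟨fun g hg n => hKn n n.2.2 g hg⟩
  haveI : IsSimpleGroup ↥(alternatingGroup ↥o) := alternatingGroup.isSimpleGroup (by
    rw [Nat.card_eq_fintype_card, Fintype.card_coe, card_octad ho]; norm_num)
  have hnorm : (KR.map (restr O)).Normal := Subgroup.Normal.map inferInstance _ (restr_surjective O)
  rcases hnorm.eq_bot_or_eq_top with hbot | htop
  · have hker : ∀ g (hg : g ∈ Kf), q ⟨g, (hKR hg).1⟩ ∈ octadKernel o := fun g hg => by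
      refine (restr_eq_one_iff O ⟨g, hKR hg⟩).1 ?_
      have : restr O ⟨g, hKR hg⟩ ∈ KR.map (restr O) := ⟨⟨g, hKR hg⟩, hg, rfl⟩
      rwa [hbot, Subgroup.mem_bot] at this
    let W : Subgroup G := A ⊓ Subgroup.centralizer (Kf : Set G)
    have hinv : NA ≤ Subgroup.normalizer (W : Set G) := by
      have key : ∀ n ∈ NA, ∀ x ∈ W, n * x * n⁻¹ ∈ W := fun n hn x hx => by
        refine ⟨conj_mem_A hn hx.1, Subgroup.mem_centralizer_iff.2 fun g hg => ?_⟩
        have h1 := Subgroup.mem_centralizer_iff.1 hx.2 _ (hKn _ (inv_mem hn) g hg)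
        rw [inv_inv] at h1
        calc g * (n * x * n⁻¹) = n * (n⁻¹ * g * n * x) * n⁻¹ := by group
          _ = n * x * n⁻¹ * g := by rw [h1]; group
      intro n hn
      refine Subgroup.mem_normalizer_iff.2 fun x => ⟨key n hn x, fun hx => ?_⟩
      have := key n⁻¹ (inv_mem hn) _ hx
      simpa [mul_assoc] using this
    rcases irreducible O inf_le_left hinv with hW | hW
    · exfalso
      obtain ⟨a, ha, b, hb, hab⟩ := Finset.one_lt_card.1 (by rw [card_octad ho]; norm_num : 1 < o.card)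
      have hd := duad_mem_inf O ha hb hab
      have : p a * p b ∈ W := by
        refine ⟨hd.1, Subgroup.mem_centralizer_iff.2 fun g hg => ?_⟩
        obtain ⟨c, hc, t, ht, rfl⟩ := exists_mul M O (hKR hg) (hker g hg)
        rw [mul_assoc, M.comm ht.1 hd.2, ← mul_assoc, comm_A O hc hd.1, mul_assoc]
      have hbot' : p a * p b ∈ (⊥ : Subgroup G) := hW ▸ (this : p a * p b ∈ A ⊓ Subgroup.centralizer (Kf : Set G))
      rw [Subgroup.mem_bot] at hbot'
      exact M.duad_ne_one hab hbot'
    · refine mem_A_of_comm O fun a ha => ?_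
      have h' : a ∈ A ⊓ Subgroup.centralizer (Kf : Set G) := by rw [hW]; exact ha
      exact (Subgroup.mem_centralizer_iff.1 h'.2 k ⟨hk, hfix⟩).symm
  · exfalso
    obtain ⟨e⟩ : Nonempty (Fin 8 ≃ ↥o) := ⟨(Finset.equivFinOfCardEq (card_octad ho)).symm⟩
    let u : Fin 4 ↪ GolayPt := ⟨fun i => (e (Fin.castLE (by omega) i) : GolayPt), fun i j h =>
      Fin.castLE_injective (by omega) (e.injective (Subtype.ext h))⟩
    let v : Fin 4 ↪ GolayPt := ⟨fun i => (e (![0, 1, 2, 4] i) : GolayPt), fun i j h => by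
      have h' := e.injective (Subtype.ext h)
      clear h
      revert i j
      decide⟩
    have hu : ∀ i, u i ∈ o := fun i => (e _).2
    have hv : ∀ i, v i ∈ o := fun i => (e _).2
    obtain ⟨s, hs, hsuv⟩ := exists_map_four ho u v hu hv
    obtain ⟨n, hn, hqn⟩ := O.lift s hs
    have hmem : restr O ⟨n, n.2, hn⟩ ∈ KR.map (restr O) := by rw [htop]; exact Subgroup.mem_top _
    obtain ⟨g, hg, hge⟩ := hmem
    have hgs : ∀ i, q ⟨g, g.2.1⟩ (u i) = v i := fun i => by
      rw [← hsuv i, ← hqn, ← restr_apply O g ⟨u i, hu i⟩, hge, restr_apply]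
    have hne : ∀ i j, i ≠ j → u i ≠ u j := fun i j h => u.injective.ne h
    set x := p (u 0) * p (u 1) * (p (u 2) * p (u 3)) with hx
    have hxA : x ∈ A := mul_mem (duad_mem_inf O (hu 0) (hu 1) (hne 0 1 (by decide))).1
      (duad_mem_inf O (hu 2) (hu 3) (hne 2 3 (by decide))).1
    have hxz : x ∈ zPart z A := ⟨hxA, M.quad_isConj (hne 0 1 (by decide)) (hne 2 3 (by decide))
      (hne 0 2 (by decide)) (hne 0 3 (by decide)) (hne 1 2 (by decide)) (hne 1 3 (by decide))⟩
    have h7 := O.z_frames x hxz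
    obtain ⟨W, ⟨hW, hxW⟩, hWV⟩ := Set.exists_ne_of_one_lt_ncard
      (by rw [h7]; norm_num : 1 < ({W | W ∈ frames V A ∧ x ∈ W} : Set _).ncard) V
    have hgW : (g : G) ∈ Subgroup.normalizer (W : Set G) := (Subgroup.mem_subgroupOf.1 hg).2 W hW
    have hy := conj_mem_of_normalizer hgW hxW
    have hcalc : (g : G) * x * (g : G)⁻¹ = p (v 0) * p (v 1) * (p (v 2) * p (v 3)) := by
      rw [hx, ← hgs 0, ← hgs 1, ← hgs 2, ← hgs 3, ← M.act _ _ _ (hne 0 1 (by decide)),
        ← M.act _ _ _ (hne 2 3 (by decide))]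
      simp [mul_assoc]
    rw [hcalc] at hy
    have h01 : (v 0 : GolayPt) = u 0 := rfl
    have h11 : (v 1 : GolayPt) = u 1 := rfl
    have h21 : (v 2 : GolayPt) = u 2 := rfl
    rw [h01, h11, h21] at hy
    have hv3 : u 3 ≠ v 3 := fun h => by
      have h' := e.injective (Subtype.ext h)
      revert h'; decide
    have hd : p (u 3) * p (v 3) ∈ W := by
      have h1 := mul_mem hxW hy
      rw [hx] at h1
      have hm : ∀ a b, p a * p b ∈ V := M.duad_mem
      have h2 : p (u 0) * p (u 1) * (p (u 2) * p (u 3)) * (p (u 0) * p (u 1) * (p (u 2) * p (v 3))) =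
          p (u 3) * p (v 3) := by
        rw [M.comm (hm (u 0) (u 1)) (hm (u 2) (u 3))]
        simp only [← mul_assoc]
        rw [show p (u 2) * p (u 3) * p (u 0) * p (u 1) * p (u 0) * p (u 1) =
          p (u 2) * p (u 3) * ((p (u 0) * p (u 1)) * (p (u 0) * p (u 1))) by group,
          M.sq (hm _ _), mul_one, M.comm (M.mem (u 2)) (M.mem (u 3))]
        rw [mul_assoc (p (u 3)), M.sq (M.mem _), mul_one]
      rwa [h2] at h1
    have hdA : p (u 3) * p (v 3) ∈ A := (duad_mem_inf O (hu 3) (hv 3) hv3).1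
    obtain ⟨W₀, -, huniq⟩ := O.unique_frame _ hdA (M.duad_ne_one hv3) (M.duad_not_conj hv3)
    exact hWV ((huniq W ⟨hW, hd⟩).trans (huniq V ⟨V_mem_frames O, M.duad_mem _ _⟩).symm)

end

end CfsgLib.JFour.TwoTen
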