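import Cfsg.Agent.Lib.JFour.TwoTen.Frames
import Cfsg.Agent.Lib.MetacyclicP.ONanAbelian.Build
import Cfsg.Agent.Lib.ClassicalLinear.BlockHom
import Cfsg.Agent.Lib.ClassicalLinear.Card

/-!
# Self-centralizing elementary abelian `2 ^ 10`: the normalizer induces `SL₅(2)` on the frames
-/

set_option autoImplicit false
set_option linter.unusedSectionVars false
set_option linter.style.haveILetI false

open Cfsg

namespace CfsgLib.JFour.TwoTen

open CfsgLib.GolayStructure

variable {G : Type*} [Group G] {z : G} {V A : Subgroup G} {p : GolayPt → G}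
  {q : ↥(Subgroup.normalizer (V : Set G)) →* Equiv.Perm GolayPt} {o : Finset GolayPt}

/-- The permutations of the frames induced by the normalizer of `A`. -/
def frameHom (V A : Subgroup G) :
    ↥(Subgroup.normalizer (A : Set G)) →* Equiv.Perm ↥(frames V A) where
  toFun n :=
    { toFun := fun W => ⟨W.1.map (MulAut.conj (n : G)).toMonoidHom, frames_conj W.2 n.2⟩
      invFun := fun W => ⟨W.1.map (MulAut.conj (n : G)⁻¹).toMonoidHom, frames_conj W.2 (inv_mem n.2)⟩
      left_inv := fun W => Subtype.ext (by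
        show (W.1.map _).map _ = W.1
        rw [conj_map_map, inv_mul_cancel, map_conj_eq (one_mem _)])
      right_inv := fun W => Subtype.ext (by
        show (W.1.map _).map _ = W.1
        rw [conj_map_map, mul_inv_cancel, map_conj_eq (one_mem _)]) }
  map_one' := Equiv.ext fun W => Subtype.ext (map_conj_eq (one_mem _))
  map_mul' m n := Equiv.ext fun W => Subtype.ext (conj_map_map W.1 (m : G) (n : G)).symm

theorem frameHom_apply (n : ↥(Subgroup.normalizer (A : Set G))) (W : ↥(frames V A)) :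
    ((frameHom V A n W : ↥(frames V A)) : Subgroup G) = W.1.map (MulAut.conj (n : G)).toMonoidHom := rfl

variable (M : Model z V p q) (O : Orbits z p q o A)
include M O

theorem frameHom_ker [Finite G] :
    (frameHom V A).ker = A.subgroupOf (Subgroup.normalizer (A : Set G)) := by
  ext n
  rw [MonoidHom.mem_ker, Subgroup.mem_subgroupOf]
  constructor
  · intro h
    refine mem_of_fix M O n.2 fun W hW => mem_normalizer_of_map_conj_eq ?_
    have := congrArg Subtype.val (Equiv.ext_iff.1 h ⟨W, hW⟩)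
    exact this
  · exact fun h => Equiv.ext fun W => Subtype.ext (map_conj_eq (W.2.2 h))

theorem card_frameHom_range [Finite G] : Nat.card ↥(frameHom V A).range = 9999360 := by
  have h := (frameHom V A).ker.card_eq_card_quotient_mul_card_subgroup
  rw [Nat.card_congr (QuotientGroup.quotientKerEquivRange (frameHom V A)).toEquiv, frameHom_ker M O,
    Nat.card_congr (Subgroup.subgroupOfEquivOfLe (Subgroup.le_normalizer (H := A))).toEquiv, O.ten.card,
    card_normalizer M O] at h
  omega

/-- The recognition of the group induced on the frames. -/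
theorem nonempty_range_iso [Finite G] : Nonempty (↥(frameHom V A).range ≃*
    Matrix.SpecialLinearGroup (Fin 5) (ZMod 2)) := by
  classical
  have ho := O.above.oct
  obtain ⟨x, hx⟩ := exists_not_mem ho
  set NA := Subgroup.normalizer (A : Set G) with hNA
  set Gf := (frameHom V A).range with hGf
  haveI : Fintype ↥(frames V A) := Fintype.ofFinite _
  let V' : ↥(frames V A) := ⟨V, V_mem_frames O⟩
  have hsmul : ∀ (g : ↥Gf) (W : ↥(frames V A)), g • W = (g : Equiv.Perm ↥(frames V A)) W := fun _ _ => rfl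
  let φ : ↥NA →* ↥Gf := (frameHom V A).rangeRestrict
  have hφ : ∀ (n : ↥NA) (W : ↥(frames V A)),
      ((φ n • W : ↥(frames V A)) : Subgroup G) = W.1.map (MulAut.conj (n : G)).toMonoidHom := fun _ _ => rfl
  have hφs : Function.Surjective φ := (frameHom V A).rangeRestrict_surjective
  let N : Subgroup ↥Gf := ((V ⊓ NA).subgroupOf NA).map φ
  have two : ∀ a b a' b' : ↥(frames V A), a ≠ b → a' ≠ b' → ∃ g : ↥Gf, g • a = a' ∧ g • b = b' := by
    intro a b a' b' hab hab'
    obtain ⟨n, hn, h1, h2⟩ := exists_two_frames M O a.2 b.2 (fun e => hab (Subtype.ext e)) a'.2 b'.2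
      (fun e => hab' (Subtype.ext e))
    exact ⟨φ ⟨n, hn⟩, Subtype.ext h1, Subtype.ext h2⟩
  have hle : N ≤ MulAction.stabilizer ↥Gf V' := by
    rintro _ ⟨n, hn, rfl⟩
    exact Subtype.ext (map_conj_eq (M.le_normalizer hn.1))
  have hnorm : ∀ g ∈ MulAction.stabilizer ↥Gf V', ∀ t ∈ N, g * t * g⁻¹ ∈ N := by
    intro g hg t ht
    obtain ⟨n, rfl⟩ := hφs g
    obtain ⟨s, hs, rfl⟩ := ht
    refine ⟨n * s * n⁻¹, ?_, by rw [map_mul, map_mul, map_inv]⟩
    have hnV : (n : G) ∈ Subgroup.normalizer (V : Set G) :=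
      mem_normalizer_of_map_conj_eq (congrArg Subtype.val hg)
    exact conj_mem_of_normalizer (conj_tn O ⟨hnV, n.2⟩) hs
  have hab : ∀ a ∈ N, ∀ b ∈ N, a * b = b * a := by
    rintro _ ⟨a, ha, rfl⟩ _ ⟨b, hb, rfl⟩
    rw [← map_mul, ← map_mul]
    exact congrArg φ (Subtype.ext (M.comm ha.1 hb.1))
  have hns : ∃ n ∈ N, n ≠ 1 ∧ ∃ y : ↥(frames V A), y ≠ V' ∧ n • y = y := by
    obtain ⟨W, hW, hWV⟩ := Set.exists_ne_of_one_lt_ncard
      (by rw [O.card_frames]; norm_num : 1 < (frames V A).ncard) V
    obtain ⟨f, hf, hf1, hfW⟩ := exists_fixing M O hx hW hWV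
    have hT := outside_mem M O x hx hf
    refine ⟨φ ⟨_, hT.2⟩, ⟨⟨_, hT.2⟩, hT, rfl⟩, fun h => ?_, ⟨W, hW⟩, fun e => hWV (congrArg Subtype.val e),
      Subtype.ext (map_conj_eq hfW)⟩
    have hk : (⟨_, hT.2⟩ : ↥NA) ∈ (frameHom V A).ker := congrArg Subtype.val h
    rw [frameHom_ker M O] at hk
    exact outside_not_mem M O hx hf hf1 hk
  obtain ⟨S⟩ := CfsgLib.MetacyclicP.ONanAbelian.exists_absys two V' N hle hnorm hab hns
  haveI : Fintype ↥Gf := Fintype.ofFinite _
  obtain ⟨m, K, fK, fiK, hm, h31, L, hL, ⟨e⟩, -⟩ := S.exists_psl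
  rw [← Nat.card_eq_fintype_card, Nat.card_coe_set_eq, O.card_frames] at h31
  have hq2 : 2 ≤ Fintype.card K := Fintype.one_lt_card
  rw [← Nat.geomSum_eq hq2] at h31
  have hge : ∀ i ≤ m, Fintype.card K ^ i ≤ 31 := fun i hi => h31 ▸
    Finset.single_le_sum (f := fun j => Fintype.card K ^ j) (fun _ _ => Nat.zero_le _)
      (Finset.mem_range.2 (by omega : i < m + 1))
  have hq5 : Fintype.card K ≤ 5 := by
    by_contra hlt
    have h1 := hge 2 hm
    have h2 : 6 ^ 2 ≤ Fintype.card K ^ 2 := Nat.pow_le_pow_left (by omega) 2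
    omega
  have hm4 : m ≤ 4 := by
    by_contra hlt
    have h1 := hge m le_rfl
    have h2 : 2 ^ m ≤ Fintype.card K ^ m := Nat.pow_le_pow_left hq2 m
    have h3 : 2 ^ 5 ≤ 2 ^ m := Nat.pow_le_pow_right two_pos (by omega)
    omega
  have hdvd : Nat.card (Matrix.ProjectiveSpecialLinearGroup (Fin (m + 1)) K) ∣ 9999360 := by
    rw [← card_frameHom_range M O, ← Nat.card_congr e.toEquiv]
    exact Subgroup.card_subgroup_dvd_card L
  have hP := CfsgLib.ClassicalLinear.card_PSL (ι := Fin (m + 1)) (F := K)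
  rw [Fintype.card_fin] at hP
  obtain ⟨hK, rfl⟩ : Fintype.card K = 2 ∧ m = 4 := by
    generalize Fintype.card K = c at hP h31 hq2 hq5
    interval_cases c <;> interval_cases m <;> norm_num [Finset.sum_range_succ] at h31
    · exact ⟨rfl, rfl⟩
    · exfalso
      simp [Fin.prod_univ_succ] at hP
      rw [show Nat.card (Matrix.ProjectiveSpecialLinearGroup (Fin (2 + 1)) K) = 372000 by
        rw [Nat.card_eq_fintype_card]; show Fintype.card (Matrix.ProjectiveSpecialLinearGroup (Fin 3) K) = _; omega] at hdvd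
      norm_num at hdvd
  have hcard : Nat.card (Matrix.ProjectiveSpecialLinearGroup (Fin (4 + 1)) K) = 9999360 := by
    rw [hK] at hP
    norm_num [Fin.prod_univ_succ] at hP
    rw [Nat.card_eq_fintype_card]
    omega
  have hLtop : L = ⊤ := Subgroup.eq_top_of_card_eq L (by
    rw [card_frameHom_range M O, Nat.card_congr e.toEquiv, hcard])
  let r : K ≃+* ZMod 2 := (ZMod.ringEquivOfPrime K Nat.prime_two hK).symm
  have hc : Subgroup.center (Matrix.SpecialLinearGroup (Fin (4 + 1)) K) = ⊥ :=
    Subgroup.eq_bot_of_card_eq _ (by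
      rw [CfsgLib.ClassicalLinear.card_center_SL, hK, Fintype.card_fin]; rfl)
  exact ⟨((MulEquiv.subgroupCongr hLtop).trans Subgroup.topEquiv).symm.trans (e.trans
    (((QuotientGroup.quotientMulEquivOfEq hc).trans QuotientGroup.quotientBot).trans
      (CfsgLib.ClassicalLinear.slCongr r)))⟩

/-- The normalizer of `A` induces `SL₅(2)` on `A`. -/
theorem nonempty_iso [Finite G] : Nonempty (↥(Subgroup.normalizer (A : Set G)) ⧸
    A.subgroupOf (Subgroup.normalizer (A : Set G)) ≃* Matrix.SpecialLinearGroup (Fin 5) (ZMod 2)) := by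
  obtain ⟨e⟩ := nonempty_range_iso M O
  exact ⟨(QuotientGroup.quotientMulEquivOfEq (frameHom_ker M O).symm).trans
    ((QuotientGroup.quotientKerEquivRange (frameHom V A)).trans e)⟩

end CfsgLib.JFour.TwoTen
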