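import Cfsg.Agent.Lib.JFour.TwoTen.Defs

/-!
# Fixed elements of `V` under an involution of the normalizer, and the span of an octad
-/

set_option autoImplicit false
set_option linter.unusedSectionVars false

open Cfsg
open scoped Pointwise

namespace CfsgLib.JFour.TwoTen

open CfsgLib.GolayStructure

variable {G : Type*} [Group G] [Finite G] {z : G} {V : Subgroup G} {p : GolayPt → G}
  {q : ↥(Subgroup.normalizer (V : Set G)) →* Equiv.Perm GolayPt}

namespace Model

variable (M : Model z V p q)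
include M

theorem octSpan_le (o : Finset GolayPt) : octSpan p o ≤ V := by
  refine (Subgroup.closure_le _).2 ?_
  rintro _ ⟨a, -, b, -, -, rfl⟩
  exact M.duad_mem a b

theorem octSpan_fixed {o : Finset GolayPt} (n : ↥(Subgroup.normalizer (V : Set G)))
    (hn : ∀ x ∈ o, q n x = x) : octSpan p o ≤ Subgroup.centralizer ({(n : G)} : Set G) := by
  refine (Subgroup.closure_le _).2 ?_
  rintro _ ⟨a, ha, b, hb, hab, rfl⟩
  rw [SetLike.mem_coe, Subgroup.mem_centralizer_singleton_iff]
  exact ((M.commute_duad_iff n hab).2 (Or.inl ⟨hn a ha, hn b hb⟩)).symm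

/-- The map `v ↦ [n, v]` on `V`. -/
def comMap (n : ↥(Subgroup.normalizer (V : Set G))) : ↥V →* ↥V where
  toFun v := ⟨(n : G) * v * (n : G)⁻¹ * v,
    V.mul_mem ((Subgroup.mem_normalizer_iff.1 n.2 v).1 v.2) v.2⟩
  map_one' := Subtype.ext (by simp)
  map_mul' v w := Subtype.ext (by
    have hw' : (n : G) * w * (n : G)⁻¹ ∈ V := (Subgroup.mem_normalizer_iff.1 n.2 w).1 w.2
    show (n : G) * ((v : G) * w) * (n : G)⁻¹ * ((v : G) * w) =
      (n : G) * v * (n : G)⁻¹ * v * ((n : G) * w * (n : G)⁻¹ * w)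
    calc (n : G) * ((v : G) * w) * (n : G)⁻¹ * ((v : G) * w)
        = (n : G) * v * (n : G)⁻¹ * (((n : G) * w * (n : G)⁻¹) * (v : G)) * w := by group
      _ = _ := by rw [M.comm hw' v.2]; group)

theorem comMap_apply (n : ↥(Subgroup.normalizer (V : Set G))) (v : ↥V) :
    (M.comMap n v : G) = (n : G) * v * (n : G)⁻¹ * v := rfl

theorem mem_ker_comMap (n : ↥(Subgroup.normalizer (V : Set G))) (v : ↥V) :
    v ∈ (M.comMap n).ker ↔ (v : G) ∈ Subgroup.centralizer ({(n : G)} : Set G) := by
  rw [MonoidHom.mem_ker, Subgroup.mem_centralizer_singleton_iff, Subtype.ext_iff, M.comMap_apply,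
    OneMemClass.coe_one]
  have hv : (v : G)⁻¹ = v := inv_eq_of_mul_eq_one_right (M.sq v.2)
  constructor
  · intro h
    rw [mul_eq_one_iff_eq_inv, hv, mul_inv_eq_iff_eq_mul] at h
    exact h.symm
  · intro h
    rw [← h, mul_inv_cancel_right, M.sq v.2]

theorem card_fixed_mul (n : ↥(Subgroup.normalizer (V : Set G))) :
    Nat.card ↥(V ⊓ Subgroup.centralizer ({(n : G)} : Set G)) * Nat.card ↥(M.comMap n).range = 2 ^ 11 := by
  rw [← M.card_V]
  have h := Subgroup.card_eq_card_quotient_mul_card_subgroup (M.comMap n).ker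
  rw [Nat.card_congr (QuotientGroup.quotientKerEquivRange _).toEquiv] at h
  rw [h, mul_comm]
  congr 1
  exact Nat.card_congr
    { toFun := fun v => ⟨⟨v, (Subgroup.mem_inf.1 v.2).1⟩, (M.mem_ker_comMap n _).2 (Subgroup.mem_inf.1 v.2).2⟩
      invFun := fun v => ⟨v.1, Subgroup.mem_inf.2 ⟨v.1.2, (M.mem_ker_comMap n _).1 v.2⟩⟩
      left_inv := fun _ => rfl
      right_inv := fun _ => rfl }

/-- Sums of two moved pairs lie in `[V, n]`. -/
theorem quad_mem_range (n : ↥(Subgroup.normalizer (V : Set G))) {x y : GolayPt} (hxy : x ≠ y) :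
    p x * p (q n x) * (p y * p (q n y)) ∈ ((M.comMap n).range.map V.subtype : Subgroup G) := by
  refine ⟨M.comMap n ⟨p x * p y, M.duad_mem x y⟩, ⟨_, rfl⟩, ?_⟩
  show (n : G) * (p x * p y) * (n : G)⁻¹ * (p x * p y) = _
  rw [M.act n x y hxy]
  calc p (q n x) * p (q n y) * (p x * p y)
      = p (q n x) * (p (q n y) * p x) * p y := by group
    _ = p (q n x) * p x * (p (q n y) * p y) := by rw [M.duad_comm (q n y) x]; group
    _ = _ := by rw [M.duad_comm (q n x) x, M.duad_comm (q n y) y]

theorem single_mem_range (n : ↥(Subgroup.normalizer (V : Set G))) {x a : GolayPt} (hxa : x ≠ a)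
    (ha : q n a = a) : p x * p (q n x) ∈ ((M.comMap n).range.map V.subtype : Subgroup G) := by
  have := M.quad_mem_range n hxa
  rwa [ha, M.sq (M.mem a), mul_one] at this

/-- A non-trivial image of exponent two on 24 points gives a commutator space of order at least 16. -/
theorem card_range_ge (n : ↥(Subgroup.normalizer (V : Set G))) (h2 : q n * q n = 1) (h1 : q n ≠ 1) :
    16 ≤ Nat.card ↥(M.comMap n).range := by
  classical
  set f := q n with hf
  have hinv : ∀ x, f (f x) = x := fun x => by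
    rw [← Equiv.Perm.mul_apply, h2]; rfl
  -- a set of one representative of each moved pair
  obtain ⟨R, hR, hRd⟩ : ∃ R : Finset GolayPt, (∀ x ∈ R, f x ≠ x) ∧ 8 ≤ R.card ∧
      (∀ x ∈ R, f x ∉ R) ∧ ((∀ a, f a ≠ a) → 12 ≤ R.card) := by
    let e := Fintype.equivFin GolayPt
    let R := Finset.univ.filter fun x : GolayPt => e x < e (f x)
    refine ⟨R, fun x hx h => ?_, ?_, fun x hx h => ?_, fun hfree => ?_⟩
    · simp [R, h] at hx
    · have h16 : 16 ≤ (Finset.univ.filter fun x : GolayPt => f x ≠ x).card := by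
        rcases Cfsg.Agent.S5394.result.1 f (M.q_mem n) (orderOf_two h2 h1) with ho | ho
        · have h8 := card_octad ho
          have hc := Finset.card_filter_add_card_filter_not
            (s := (Finset.univ : Finset GolayPt)) (p := fun x => f x = x)
          rw [Finset.card_univ, show Fintype.card GolayPt = 24 from rfl] at hc
          simp only [ne_eq] at hc ⊢
          omega
        · rw [Finset.filter_true_of_mem fun x _ => ho x, Finset.card_univ]
          decide
      have hsub : (Finset.univ.filter fun x : GolayPt => f x ≠ x) ⊆ R ∪ R.image f := by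
        intro x hx
        rcases lt_trichotomy (e x) (e (f x)) with h | h | h
        · exact Finset.mem_union_left _ (by simp [R, h])
        · exact absurd (e.injective h).symm (Finset.mem_filter.1 hx).2
        · refine Finset.mem_union_right _ (Finset.mem_image.2 ⟨f x, ?_, hinv x⟩)
          simp [R, hinv, h]
      have := (Finset.card_le_card hsub).trans (Finset.card_union_le _ _)
      have h' : (R.image f).card ≤ R.card := Finset.card_image_le
      omega
    · simp only [R, Finset.mem_filter, Finset.mem_univ, true_and, hinv] at hx h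
      exact lt_asymm hx h
    · have hsub : (Finset.univ : Finset GolayPt) ⊆ R ∪ R.image f := by
        intro x _
        rcases lt_trichotomy (e x) (e (f x)) with h | h | h
        · exact Finset.mem_union_left _ (by simp [R, h])
        · exact absurd (e.injective h).symm (hfree x)
        · refine Finset.mem_union_right _ (Finset.mem_image.2 ⟨f x, ?_, hinv x⟩)
          simp [R, hinv, h]
      have := (Finset.card_le_card hsub).trans (Finset.card_union_le _ _)
      have h' : (R.image f).card ≤ R.card := Finset.card_image_le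
      rw [Finset.card_univ, show Fintype.card GolayPt = 24 from rfl] at this
      omega
  obtain ⟨hR8, hRf, hR12⟩ := hRd
  -- the pair of a point
  let P : GolayPt → G := fun x => p x * p (f x)
  have hPinj : ∀ x ∈ R, ∀ y ∈ R, P x = P y → x = y := fun x hx y hy h => by
    rcases M.pair_inj _ _ _ _ (hR x hx).symm (hR y hy).symm h with g | g
    · exact g.1
    · exact absurd (g.1 ▸ hx) (hRf y hy)
  obtain ⟨x₀, hx₀⟩ : R.Nonempty := Finset.card_pos.1 (by omega)
  let W := ((M.comMap n).range.map V.subtype : Subgroup G)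
  have hW : Nat.card ↥W = Nat.card ↥(M.comMap n).range :=
    (Nat.card_congr (Subgroup.equivMapOfInjective _ _ V.subtype_injective).toEquiv).symm
  let Q : Finset G := (R.erase x₀).image fun y => P x₀ * P y
  have hQc : Q.card = R.card - 1 := by
    rw [Finset.card_image_of_injOn, Finset.card_erase_of_mem hx₀]
    intro y hy y' hy' h
    simp only [Finset.mem_coe, Finset.mem_erase] at hy hy'
    exact hPinj y hy.2 y' hy'.2 (mul_left_cancel h)
  have hQne : ∀ g ∈ Q, g ≠ 1 ∧ g ∈ W ∧ ∀ x ∈ R, g ≠ P x := by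
    intro g hg
    obtain ⟨y, hy, rfl⟩ := Finset.mem_image.1 hg
    rw [Finset.mem_erase] at hy
    have ha : x₀ ≠ y := Ne.symm hy.1
    have hb : x₀ ≠ f y := fun e => hRf y hy.2 (e ▸ hx₀)
    have hc : f x₀ ≠ y := fun e => hRf x₀ hx₀ (e ▸ hy.2)
    have hd : f x₀ ≠ f y := f.injective.ne ha
    refine ⟨M.quad_ne_one (hR _ hx₀).symm (hR _ hy.2).symm ha hb, M.quad_mem_range n ha, fun x hx e => ?_⟩
    have hz := M.quad_isConj (hR _ hx₀).symm (hR _ hy.2).symm ha hb hc hd
    exact M.duad_not_conj (hR x hx).symm ((show IsConj z (P x₀ * P y) from hz).trans (by rw [e]))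
  have hpow : ∃ k, Nat.card ↥W = 2 ^ k := by
    obtain ⟨k, -, hk⟩ := (Nat.dvd_prime_pow Nat.prime_two).1
      (M.card_V ▸ Subgroup.card_dvd_of_le (Subgroup.map_subtype_le _ : W ≤ V))
    exact ⟨k, hk⟩
  obtain ⟨k, hk⟩ := hpow
  rw [← hW]
  suffices 9 ≤ Nat.card ↥W by
    rw [hk] at this ⊢
    by_contra hc
    have hk4 : k < 4 := (Nat.pow_lt_pow_iff_right (by norm_num : 1 < 2)).1 (by omega : 2 ^ k < 2 ^ 4)
    interval_cases k <;> omega
  have key : ∀ S : Finset G, (∀ g ∈ S, g ∈ W) → S.card ≤ Nat.card ↥W := fun S hS => by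
    haveI : Fintype ↥W := Fintype.ofFinite _
    rw [Nat.card_eq_fintype_card, ← Fintype.card_coe]
    exact Fintype.card_le_of_injective (fun g => (⟨g.1, hS g.1 g.2⟩ : ↥W))
      fun a b h => Subtype.ext (congrArg (fun w : ↥W => (w : G)) h)
  by_cases hfree : ∀ a, f a ≠ a
  · have := key (insert 1 Q) (fun g hg => by
      rcases Finset.mem_insert.1 hg with rfl | hg
      · exact W.one_mem
      · exact (hQne g hg).2.1)
    rw [Finset.card_insert_of_notMem (fun h => (hQne 1 h).1 rfl), hQc] at this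
    have := hR12 hfree
    omega
  · push Not at hfree
    obtain ⟨a, ha⟩ := hfree
    have := key (insert 1 (R.image P)) (fun g hg => by
      rcases Finset.mem_insert.1 hg with rfl | hg
      · exact W.one_mem
      · obtain ⟨x, hx, rfl⟩ := Finset.mem_image.1 hg
        exact M.single_mem_range n (fun e : x = a => hR x hx (e ▸ ha)) ha)
    rw [Finset.card_insert_of_notMem (fun h => by
      obtain ⟨x, hx, e⟩ := Finset.mem_image.1 h
      exact M.duad_ne_one (hR x hx).symm e), Finset.card_image_of_injOn (fun x hx y hy => hPinj x hx y hy)] at this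
    omega

theorem card_fixed_le (n : ↥(Subgroup.normalizer (V : Set G))) (h2 : q n * q n = 1) (h1 : q n ≠ 1) :
    Nat.card ↥(V ⊓ Subgroup.centralizer ({(n : G)} : Set G)) ≤ 2 ^ 7 := by
  have h := M.card_fixed_mul n
  have h16 := M.card_range_ge n h2 h1
  nlinarith [Nat.mul_le_mul_left (Nat.card ↥(V ⊓ Subgroup.centralizer ({(n : G)} : Set G))) h16]

theorem duad_moved_fixed (n : ↥(Subgroup.normalizer (V : Set G))) (h2 : q n * q n = 1) {x : GolayPt}
    (hx : q n x ≠ x) : p x * p (q n x) ∈ V ⊓ Subgroup.centralizer ({(n : G)} : Set G) := by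
  refine Subgroup.mem_inf.2 ⟨M.duad_mem _ _, Subgroup.mem_centralizer_singleton_iff.2 ?_⟩
  exact ((M.commute_duad_iff n hx.symm).2 (Or.inr ⟨rfl, by rw [← Equiv.Perm.mul_apply, h2]; rfl⟩)).symm

variable {o : Finset GolayPt}

theorem card_octSpan_ge (ho : o ∈ octads) : 2 ^ 6 ≤ Nat.card ↥(octSpan p o) := by
  classical
  obtain ⟨a, ha, b, hb, hab⟩ := Finset.one_lt_card.1 (by rw [card_octad ho]; norm_num : 1 < o.card)
  set o' := (o.erase a).erase b with ho'
  have ho'c : o'.card = 6 := by
    rw [Finset.card_erase_of_mem (Finset.mem_erase.2 ⟨hab.symm, hb⟩), Finset.card_erase_of_mem ha, card_octad ho]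
  have hmem' : ∀ x ∈ o', x ∈ o ∧ x ≠ a ∧ x ≠ b := fun x hx => by
    simp only [ho', Finset.mem_erase] at hx
    exact ⟨hx.2.2, hx.2.1, hx.1⟩
  let e := Fintype.equivFin GolayPt
  let T₁ : Finset (GolayPt × GolayPt) := (o ×ˢ o).filter fun x => e x.1 < e x.2
  let T₂ : Finset (GolayPt × GolayPt) := (o' ×ˢ o').filter fun x => e x.1 < e x.2
  let F₁ : Finset G := T₁.image fun x => p x.1 * p x.2
  let F₂ : Finset G := T₂.image fun x => p a * p b * (p x.1 * p x.2)
  have hcount : ∀ s : Finset GolayPt, 2 * ((s ×ˢ s).filter fun x => e x.1 < e x.2).card + s.card =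
      s.card * s.card := by
    intro s
    have h1 : ((s ×ˢ s).filter fun x => e x.2 < e x.1).card = ((s ×ˢ s).filter fun x => e x.1 < e x.2).card :=
      Finset.card_bij' (fun x _ => (x.2, x.1)) (fun x _ => (x.2, x.1))
        (fun x hx => by simp at hx ⊢; tauto) (fun x hx => by simp at hx ⊢; tauto)
        (fun _ _ => rfl) (fun _ _ => rfl)
    have hu : s ×ˢ s = ((s ×ˢ s).filter fun x => e x.1 < e x.2) ∪ ((s ×ˢ s).filter fun x => e x.2 < e x.1) ∪
        s.image fun x => (x, x) := by
      ext ⟨u, v⟩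
      simp only [Finset.mem_product, Finset.mem_union, Finset.mem_filter, Finset.mem_image, Prod.mk.injEq]
      constructor
      · rintro ⟨hu, hv⟩
        rcases lt_trichotomy (e u) (e v) with h | h | h
        · exact Or.inl (Or.inl ⟨⟨hu, hv⟩, h⟩)
        · exact Or.inr ⟨u, hu, rfl, e.injective h⟩
        · exact Or.inl (Or.inr ⟨⟨hu, hv⟩, h⟩)
      · rintro ((⟨h, -⟩ | ⟨h, -⟩) | ⟨w, hw, rfl, rfl⟩)
        · exact h
        · exact h
        · exact ⟨hw, hw⟩
    have h2 : (s ×ˢ s).card = s.card * s.card := Finset.card_product s s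
    rw [hu, Finset.card_union_of_disjoint, Finset.card_union_of_disjoint, h1,
      Finset.card_image_of_injective _ (fun u v h => congrArg Prod.fst h)] at h2
    · omega
    · exact Finset.disjoint_filter.2 fun x _ h h' => lt_asymm h h'
    · rw [Finset.disjoint_left]
      rintro ⟨u, v⟩ hx hy
      obtain ⟨w, -, e'⟩ := Finset.mem_image.1 hy
      simp only [Prod.mk.injEq] at e'
      obtain ⟨rfl, rfl⟩ := e'
      simp at hx
  have hlt : ∀ {x y : GolayPt}, e x < e y → x ≠ y := fun h e' => lt_irrefl _ (e' ▸ h)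
  have hinj : ∀ (s : Finset GolayPt) (x y : GolayPt × GolayPt),
      x ∈ (s ×ˢ s).filter (fun x => e x.1 < e x.2) → y ∈ (s ×ˢ s).filter (fun x => e x.1 < e x.2) →
      p x.1 * p x.2 = p y.1 * p y.2 → x = y := by
    intro s x y hx hy h
    simp only [Finset.mem_filter] at hx hy
    rcases M.pair_inj _ _ _ _ (hlt hx.2) (hlt hy.2) h with g | g
    · exact Prod.ext g.1 g.2
    · exact absurd (g.1 ▸ g.2 ▸ hx.2) (lt_asymm hy.2)
  have hF₁ : F₁.card = 28 := by
    rw [Finset.card_image_of_injOn (fun x hx y hy => hinj o x y hx hy)]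
    have := hcount o
    rw [card_octad ho] at this
    show T₁.card = 28
    simp only [T₁]
    omega
  have hF₂ : F₂.card = 15 := by
    rw [Finset.card_image_of_injOn (fun x hx y hy h => hinj o' x y hx hy (mul_left_cancel h))]
    have := hcount o'
    rw [ho'c] at this
    show T₂.card = 15
    simp only [T₂]
    omega
  have hF₂' : ∀ g ∈ F₂, g ≠ 1 ∧ IsConj z g ∧ g ∈ octSpan p o := by
    intro g hg
    obtain ⟨⟨c, d⟩, hx, rfl⟩ := Finset.mem_image.1 hg
    simp only [T₂, Finset.mem_filter, Finset.mem_product] at hx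
    obtain ⟨hc, hca, hcb⟩ := hmem' c hx.1.1
    obtain ⟨hd, hda, hdb⟩ := hmem' d hx.1.2
    exact ⟨M.quad_ne_one hab (hlt hx.2) hca.symm hda.symm,
      M.quad_isConj hab (hlt hx.2) hca.symm hda.symm hcb.symm hdb.symm,
      mul_mem (duad_mem_octSpan p ha hb hab) (duad_mem_octSpan p hc hd (hlt hx.2))⟩
  have hF₁' : ∀ g ∈ F₁, g ≠ 1 ∧ ¬ IsConj z g ∧ g ∈ octSpan p o := by
    intro g hg
    obtain ⟨⟨c, d⟩, hx, rfl⟩ := Finset.mem_image.1 hg
    simp only [T₁, Finset.mem_filter, Finset.mem_product] at hx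
    exact ⟨M.duad_ne_one (hlt hx.2), M.duad_not_conj (hlt hx.2), duad_mem_octSpan p hx.1.1 hx.1.2 (hlt hx.2)⟩
  have h44 : 44 ≤ Nat.card ↥(octSpan p o) := by
    have hd : Disjoint F₁ F₂ :=
      Finset.disjoint_left.2 fun g h1 h2 => (hF₁' g h1).2.1 (hF₂' g h2).2.1
    have h1 : (1 : G) ∉ F₁ ∪ F₂ := fun h => by
      rcases Finset.mem_union.1 h with h | h
      · exact (hF₁' 1 h).1 rfl
      · exact (hF₂' 1 h).1 rfl
    have hc : (insert 1 (F₁ ∪ F₂)).card = 44 := by
      rw [Finset.card_insert_of_notMem h1, Finset.card_union_of_disjoint hd, hF₁, hF₂]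
    haveI : Fintype ↥(octSpan p o) := Fintype.ofFinite _
    rw [Nat.card_eq_fintype_card, ← hc, ← Fintype.card_coe]
    refine Fintype.card_le_of_injective (fun g => (⟨g.1, ?_⟩ : ↥(octSpan p o)))
      fun a b h => Subtype.ext (congrArg (fun w : ↥(octSpan p o) => (w : G)) h)
    rcases Finset.mem_insert.1 g.2 with e' | h
    · rw [e']; exact one_mem _
    · rcases Finset.mem_union.1 h with h | h
      · exact (hF₁' _ h).2.2
      · exact (hF₂' _ h).2.2
  obtain ⟨k, -, hk⟩ := (Nat.dvd_prime_pow Nat.prime_two).1 (M.card_V ▸ Subgroup.card_dvd_of_le (M.octSpan_le o))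
  rw [hk] at h44 ⊢
  by_contra hc
  have hk6 : k < 6 := (Nat.pow_lt_pow_iff_right (by norm_num : 1 < 2)).1 (not_le.1 hc)
  interval_cases k <;> omega

/-- Structure of the fixed elements of an element over a non-trivial element of an octad kernel. -/
theorem fixed_of_kernel (ho : o ∈ octads) (n : ↥(Subgroup.normalizer (V : Set G)))
    (hn : q n ∈ octadKernel o) (h1 : q n ≠ 1) :
    Nat.card ↥(octSpan p o) = 2 ^ 6 ∧
    ∀ x, x ∉ o → ∀ v ∈ V, v * (n : G) = (n : G) * v →
      v ∈ octSpan p o ∨ v * (p x * p (q n x)) ∈ octSpan p o := by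
  classical
  set C := V ⊓ Subgroup.centralizer ({(n : G)} : Set G) with hC
  set L := octSpan p o with hL
  have hLC : L ≤ C := le_inf (M.octSpan_le o) (M.octSpan_fixed n fun x hx => (kernel_fix ho hn h1 x).2 hx)
  have h7 := M.card_fixed_le n (kernel_sq ho hn) h1
  rw [← hC] at h7
  have h6 := M.card_octSpan_ge ho
  rw [← hL] at h6
  have hnot : ∀ x, x ∉ o → p x * p (q n x) ∈ C ∧ p x * p (q n x) ∉ L := by
    intro x hx
    have hmx : q n x ≠ x := fun e => hx ((kernel_fix ho hn h1 x).1 e)
    refine ⟨M.duad_moved_fixed n (kernel_sq ho hn) hmx, fun hmem => ?_⟩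
    -- a kernel element other than the given one moves the pair
    obtain ⟨y, hy, hy'⟩ : ∃ y, y ∉ o ∧ y ≠ x ∧ y ≠ q n x := by
      have hpos : 0 < (((Finset.univ \ o).erase x).erase (q n x)).card := by
        have := Finset.pred_card_le_card_erase (s := (Finset.univ \ o).erase x) (a := q n x)
        have := Finset.pred_card_le_card_erase (s := Finset.univ \ o) (a := x)
        rw [Finset.card_univ_diff, card_octad ho, show Fintype.card GolayPt = 24 from rfl] at this
        omega
      obtain ⟨y, hy⟩ := Finset.card_pos.1 hpos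
      simp only [Finset.mem_erase, Finset.mem_sdiff] at hy
      exact ⟨y, hy.2.2.2, hy.2.1, hy.1⟩
    obtain ⟨g, hg, hgx⟩ := exists_kernel_map ho hx hy
    obtain ⟨m, hm⟩ := M.exists_lift (mem_octadKernel.1 hg).1
    have hc := Subgroup.mem_centralizer_singleton_iff.1
      (M.octSpan_fixed m (fun a ha => by rw [hm]; exact (mem_octadKernel.1 hg).2 a ha) hmem)
    rcases (M.commute_duad_iff m hmx.symm).1 hc.symm with g' | g'
    · rw [hm, hgx] at g'; exact hy'.1 g'.1
    · rw [hm, hgx] at g'; exact hy'.2 g'.1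
  obtain ⟨x₀, hx₀⟩ := exists_not_mem ho
  have hlt : L < C := lt_of_le_of_ne hLC fun e => (hnot x₀ hx₀).2 (e ▸ (hnot x₀ hx₀).1)
  have hdvd := Subgroup.card_dvd_of_le hLC
  have hltc : Nat.card ↥L < Nat.card ↥C :=
    lt_of_le_of_ne (Nat.le_of_dvd Nat.card_pos hdvd) fun e => hlt.ne (Subgroup.eq_of_le_of_card_ge hLC e.ge)
  obtain ⟨m, hm⟩ := hdvd
  have hm2 : m = 2 := by
    have h2 : 2 ≤ m := by
      by_contra hc; interval_cases m <;> omega
    by_contra hc
    have : 3 ≤ m := by omega
    have := Nat.mul_le_mul h6 this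
    omega
  have hL6 : Nat.card ↥L = 2 ^ 6 := by subst hm2; omega
  refine ⟨hL6, fun x hx v hv hvn => ?_⟩
  have hvC : v ∈ C := Subgroup.mem_inf.2 ⟨hv, Subgroup.mem_centralizer_singleton_iff.2 hvn⟩
  by_contra hcon
  push Not at hcon
  obtain ⟨hPC, hPL⟩ := hnot x hx
  have hidx : (L.subgroupOf C).index = 2 := by
    have h := (L.subgroupOf C).card_mul_index
    rw [Nat.card_congr (Subgroup.subgroupOfEquivOfLe hLC).toEquiv, hm, hm2] at h
    exact Nat.eq_of_mul_eq_mul_left Nat.card_pos h
  have := (Subgroup.mul_mem_iff_of_index_two hidx (a := (⟨v, hvC⟩ : ↥C)) (b := ⟨_, hPC⟩)).2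
    (iff_of_false hcon.1 hPL)
  exact hcon.2 this

theorem card_octSpan (ho : o ∈ octads) : Nat.card ↥(octSpan p o) = 2 ^ 6 := by
  obtain ⟨x, hx⟩ := exists_not_mem ho
  obtain ⟨y, hy, hyx⟩ : ∃ y, y ∉ o ∧ y ≠ x := by
    have hpos : 0 < ((Finset.univ \ o).erase x).card := by
      have := Finset.pred_card_le_card_erase (s := Finset.univ \ o) (a := x)
      rw [Finset.card_univ_diff, card_octad ho, show Fintype.card GolayPt = 24 from rfl] at this
      omega
    obtain ⟨y, hy⟩ := Finset.card_pos.1 hpos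
    simp only [Finset.mem_erase, Finset.mem_sdiff] at hy
    exact ⟨y, hy.2.2, hy.1⟩
  obtain ⟨f, hf, hfx⟩ := exists_kernel_map ho hx hy
  obtain ⟨n, rfl⟩ := M.exists_lift (mem_octadKernel.1 hf).1
  exact (M.fixed_of_kernel ho n hf fun h => hyx (by rw [← hfx, h]; rfl)).1

/-- Two different kernel elements fix only the span of the octad. -/
theorem octSpan_of_two (ho : o ∈ octads) {m n : ↥(Subgroup.normalizer (V : Set G))}
    (hm : q m ∈ octadKernel o) (hn : q n ∈ octadKernel o) (hm1 : q m ≠ 1) (hn1 : q n ≠ 1)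
    (hne : q m ≠ q n) {v : G} (hv : v ∈ V) (hvm : v * (m : G) = (m : G) * v)
    (hvn : v * (n : G) = (n : G) * v) : v ∈ octSpan p o := by
  obtain ⟨x, hx⟩ := exists_not_mem ho
  by_contra hL
  have hP := ((M.fixed_of_kernel ho n hn hn1).2 x hx v hv hvn).resolve_left hL
  set P := p x * p (q n x) with hPdef
  have hmem : v * P ∈ Subgroup.centralizer ({(m : G)} : Set G) :=
    M.octSpan_fixed m (fun a ha => (kernel_fix ho hm hm1 a).2 ha) hP
  have hc : P ∈ Subgroup.centralizer ({(m : G)} : Set G) := by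
    have := mul_mem (inv_mem (Subgroup.mem_centralizer_singleton_iff.2 hvm :
      v ∈ Subgroup.centralizer ({(m : G)} : Set G))) hmem
    rwa [inv_mul_cancel_left] at this
  have hxn : q n x ≠ x := fun e => hx ((kernel_fix ho hn hn1 x).1 e)
  rcases (M.commute_duad_iff m hxn.symm).1 (Subgroup.mem_centralizer_singleton_iff.1 hc).symm with g | g
  · exact hx ((kernel_fix ho hm hm1 x).1 g.1)
  · exact hne (kernel_eq_of_eq ho hm hn hx g.1)

end Model

end CfsgLib.JFour.TwoTen
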