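import Cfsg.Agent.Lib.JFour.TwoTen.Image

/-!
# The self-centralizing `2 ^ 10` of `N(V)` form one class
-/

set_option autoImplicit false
set_option linter.unusedSectionVars false

open Cfsg
open scoped Pointwise

namespace CfsgLib.JFour.TwoTen

open CfsgLib.GolayStructure

section Conj

variable {G : Type*} [Group G]

theorem mem_map_conj {H : Subgroup G} {g x : G} :
    x ∈ H.map (MulAut.conj g).toMonoidHom ↔ g⁻¹ * x * g ∈ H := by
  rw [Subgroup.mem_map_equiv, MulAut.conj_symm_apply]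

theorem mem_map_conj_of {H : Subgroup G} {g x : G} (hx : x ∈ H) :
    g * x * g⁻¹ ∈ H.map (MulAut.conj g).toMonoidHom := ⟨x, hx, rfl⟩

theorem map_conj_mul (H : Subgroup G) (g h : G) :
    (H.map (MulAut.conj h).toMonoidHom).map (MulAut.conj g).toMonoidHom =
      H.map (MulAut.conj (g * h)).toMonoidHom := by
  ext x
  simp only [mem_map_conj, mul_inv_rev, mul_assoc]

theorem map_conj_eq_iff {H : Subgroup G} {g : G} :
    H.map (MulAut.conj g).toMonoidHom = H ↔ g ∈ Subgroup.normalizer (H : Set G) := by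
  rw [Subgroup.mem_normalizer_iff, SetLike.ext_iff]
  constructor
  · intro h x
    rw [← h (g * x * g⁻¹), mem_map_conj]
    simp [mul_assoc]
  · intro h x
    rw [mem_map_conj, h (g⁻¹ * x * g)]
    simp [mul_assoc]

theorem IsTen.conj [Finite G] {A : Subgroup G} (h : IsTen A) (g : G) :
    IsTen (A.map (MulAut.conj g).toMonoidHom) := by
  refine ⟨⟨⟨⟨fun a b => Subtype.ext ?_⟩⟩, ?_⟩, ?_, ?_⟩
  · obtain ⟨a', ha', ea⟩ := a.2
    obtain ⟨b', hb', eb⟩ := b.2
    show (a : G) * b = b * a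
    rw [← ea, ← eb, ← map_mul, ← map_mul,
      show a' * b' = b' * a' from congrArg Subtype.val (h.elem.1.is_comm.comm (⟨a', ha'⟩ : ↥A) ⟨b', hb'⟩)]
  · rintro _ ⟨a, ha, rfl⟩
    rw [← map_pow, h.elem.2 a ha, map_one]
  · rw [← h.card]
    exact (Nat.card_congr (Subgroup.equivMapOfInjective A _ (MulAut.conj g).injective).toEquiv).symm
  · ext c
    rw [Subgroup.mem_centralizer_iff]
    constructor
    · intro hc
      rw [mem_map_conj, ← h.self, Subgroup.mem_centralizer_iff]
      intro a ha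
      have := hc _ (mem_map_conj_of (g := g) ha)
      calc a * (g⁻¹ * c * g) = g⁻¹ * (g * a * g⁻¹ * c) * g := by group
        _ = g⁻¹ * c * g * a := by rw [this]; group
    · intro hc x hx
      rw [SetLike.mem_coe, mem_map_conj] at hx
      rw [mem_map_conj, ← h.self, Subgroup.mem_centralizer_iff] at hc
      calc x * c = g * (g⁻¹ * x * g * (g⁻¹ * c * g)) * g⁻¹ := by group
        _ = c * x := by rw [hc _ hx]; group

theorem IsTen.sq {A : Subgroup G} (h : IsTen A) {a : G} (ha : a ∈ A) : a * a = 1 := by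
  rw [← pow_two]; exact h.elem.2 a ha

theorem IsTen.comm {A : Subgroup G} (h : IsTen A) {a b : G} (ha : a ∈ A) (hb : b ∈ A) : a * b = b * a :=
  congrArg Subtype.val (h.elem.1.is_comm.comm (⟨a, ha⟩ : ↥A) ⟨b, hb⟩)

end Conj

variable {G : Type*} [Group G] [Finite G] {z : G} {V : Subgroup G} {p : GolayPt → G}
  {q : ↥(Subgroup.normalizer (V : Set G)) →* Equiv.Perm GolayPt} {o : Finset GolayPt} {A A' : Subgroup G}

namespace Model

variable (M : Model z V p q)
include M

theorem duad_outside_notMem (ho : o ∈ octads) {x y : GolayPt} (hx : x ∉ o) (hxy : x ≠ y) :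
    p x * p y ∉ octSpan p o := by
  intro hmem
  obtain ⟨w, hwo, hwx, hwy⟩ : ∃ w, w ∉ o ∧ w ≠ x ∧ w ≠ y := by
    have hpos : 0 < (((Finset.univ \ o).erase x).erase y).card := by
      have := Finset.pred_card_le_card_erase (s := (Finset.univ \ o).erase x) (a := y)
      have := Finset.pred_card_le_card_erase (s := Finset.univ \ o) (a := x)
      rw [Finset.card_univ_sdiff, card_octad ho, show Fintype.card GolayPt = 24 from rfl] at this
      omega
    obtain ⟨w, hw⟩ := Finset.card_pos.1 hpos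
    simp only [Finset.mem_erase, Finset.mem_sdiff] at hw
    exact ⟨w, hw.2.2.2, hw.2.1, hw.1⟩
  obtain ⟨g, hg, hgx⟩ := exists_kernel_map ho hx hwo
  obtain ⟨m, hm⟩ := M.exists_lift (mem_octadKernel.1 hg).1
  have hc := Subgroup.mem_centralizer_singleton_iff.1
    (M.octSpan_fixed m (fun a ha => by rw [hm]; exact (mem_octadKernel.1 hg).2 a ha) hmem)
  rcases (M.commute_duad_iff m hxy).1 hc.symm with g' | g'
  · rw [hm, hgx] at g'; exact hwx g'.1
  · rw [hm, hgx] at g'; exact hwy g'.1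

theorem octSpan_map (n : ↥(Subgroup.normalizer (V : Set G))) {o' : Finset GolayPt}
    (h : ∀ x ∈ o, q n x ∈ o') {x : G} (hx : x ∈ octSpan p o) : (n : G) * x * (n : G)⁻¹ ∈ octSpan p o' := by
  induction hx using Subgroup.closure_induction with
  | mem x hx =>
    obtain ⟨a, ha, b, hb, hab, rfl⟩ := hx
    rw [M.act n a b hab]
    exact duad_mem_octSpan p (h a ha) (h b hb) ((q n).injective.ne hab)
  | one => simp
  | mul a b _ _ ha hb =>
    rw [show (n : G) * (a * b) * (n : G)⁻¹ = (n : G) * a * (n : G)⁻¹ * ((n : G) * b * (n : G)⁻¹) by group]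
    exact mul_mem ha hb
  | inv a _ ha => rw [← conj_inv]; exact inv_mem ha

theorem conj_V {v : G} (hv : v ∈ V) {l : G} (hl : l ∈ V) : v * l * v⁻¹ = l := by
  rw [M.comm hv hl, mul_inv_cancel_right]

end Model

namespace Over

variable (O : Over p q o A) (M : Model z V p q) (hA : IsTen A)
include O M hA

theorem span_le : octSpan p o ≤ A := O.inf ▸ inf_le_left

/-- Conjugation by a normalizing element carrying `o` to `o'`. -/
theorem conj (n : ↥(Subgroup.normalizer (V : Set G))) {o' : Finset GolayPt} (ho' : o' ∈ octads)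
    (h : ∀ x, q n x ∈ o' ↔ x ∈ o) : Over p q o' (A.map (MulAut.conj (n : G)).toMonoidHom) := by
  have hN : ∀ x, x ∈ Subgroup.normalizer (V : Set G) →
      (n : G) * x * (n : G)⁻¹ ∈ Subgroup.normalizer (V : Set G) := fun x hx =>
    mul_mem (mul_mem n.2 hx) (inv_mem n.2)
  refine ⟨ho', ?_, ?_, ?_, ?_⟩
  · rintro _ ⟨a, ha, rfl⟩
    exact hN a (O.le ha)
  · ext x
    rw [Subgroup.mem_inf]
    constructor
    · rintro ⟨⟨a, ha, rfl⟩, hx⟩
      have haV : a ∈ V := (Subgroup.mem_normalizer_iff.1 n.2 a).2 hx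
      exact M.octSpan_map n (fun y hy => (h y).2 hy) (O.inf ▸ Subgroup.mem_inf.2 ⟨ha, haV⟩ : a ∈ octSpan p o)
    · intro hx
      refine ⟨mem_map_conj.2 ?_, M.octSpan_le o' hx⟩
      have hi := M.octSpan_map n⁻¹ (o' := o) (fun y hy => (h _).1 (by
        rw [map_inv, Equiv.Perm.inv_def, Equiv.apply_symm_apply]; exact hy)) hx
      rw [Subgroup.coe_inv, inv_inv] at hi
      exact span_le O M hA hi
  · rintro a ⟨a', ha', e⟩
    have ea : a = n * ⟨a', O.le ha'⟩ * n⁻¹ := Subtype.ext e.symm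
    have hk := mem_octadKernel.1 (O.image ⟨a', O.le ha'⟩ ha')
    rw [ea, map_mul, map_mul, map_inv]
    refine mem_octadKernel.2 ⟨mul_mem (mul_mem (M.q_mem n) hk.1) (inv_mem (M.q_mem n)), fun y hy => ?_⟩
    have hy' : (q n)⁻¹ y ∈ o := (h _).1 (by rw [Equiv.Perm.inv_def, Equiv.apply_symm_apply]; exact hy)
    rw [Equiv.Perm.mul_apply, Equiv.Perm.mul_apply, hk.2 _ hy', Equiv.Perm.inv_def, Equiv.apply_symm_apply]
  · intro f hf
    have hfM := (mem_octadKernel.1 hf)
    have hk : (q n)⁻¹ * f * q n ∈ octadKernel o := mem_octadKernel.2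
      ⟨mul_mem (mul_mem (inv_mem (M.q_mem n)) hfM.1) (M.q_mem n), fun y hy => by
        rw [Equiv.Perm.mul_apply, Equiv.Perm.mul_apply, hfM.2 _ ((h y).2 hy), Equiv.Perm.inv_def,
          Equiv.symm_apply_apply]⟩
    obtain ⟨a, ha, e⟩ := O.onto _ hk
    refine ⟨n * a * n⁻¹, mem_map_conj_of ha, ?_⟩
    rw [map_mul, map_mul, map_inv, e]
    group

/-- Moving one point of an outside pair into the octad gives an element not normalizing `A`. -/
theorem notMem_normalizer {i x : GolayPt} (hi : i ∈ o) (hx : x ∉ o) :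
    p i * p x ∉ Subgroup.normalizer (A : Set G) := by
  intro hN
  obtain ⟨y, hy, hyx⟩ : ∃ y, y ∉ o ∧ y ≠ x := by
    have hpos : 0 < ((Finset.univ \ o).erase x).card := by
      have := Finset.pred_card_le_card_erase (s := Finset.univ \ o) (a := x)
      rw [Finset.card_univ_sdiff, card_octad O.oct, show Fintype.card GolayPt = 24 from rfl] at this
      omega
    obtain ⟨y, hy⟩ := Finset.card_pos.1 hpos
    simp only [Finset.mem_erase, Finset.mem_sdiff] at hy
    exact ⟨y, hy.2.2, hy.1⟩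
  obtain ⟨f, hf, hfx⟩ := exists_kernel_map O.oct hx hy
  obtain ⟨a, ha, haq⟩ := O.onto f hf
  have h1 : (p i * p x) * (a : G) * (p i * p x)⁻¹ ∈ A := (Subgroup.mem_normalizer_iff.1 hN _).1 ha
  have h2 := mul_mem h1 (inv_mem ha)
  have he : (p i * p x) * (a : G) * (p i * p x)⁻¹ * (a : G)⁻¹ = p x * p (f x) := by
    rw [inv_eq_of_mul_eq_one_right (M.sq (M.duad_mem i x)),
      show p i * p x * (a : G) * (p i * p x) * (a : G)⁻¹ =
        p i * p x * ((a : G) * (p i * p x) * (a : G)⁻¹) by group,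
      M.act a i x (fun e => hx (e ▸ hi)), haq, (mem_octadKernel.1 hf).2 i hi,
      M.duad_comm i x, M.duad_mul]
  rw [he] at h2
  refine M.duad_outside_notMem O.oct hx (fun e => hyx (hfx ▸ e.symm)) ?_
  rw [← O.inf]
  exact Subgroup.mem_inf.2 ⟨h2, M.duad_mem _ _⟩

/-- Two subgroups over the same octad differ by conjugation with `p i * p x`. -/
theorem eq_or_conj (O' : Over p q o A') (hA' : IsTen A') {i x : GolayPt} (hi : i ∈ o) (hx : x ∉ o) :
    A' = A ∨ A' = A.map (MulAut.conj (p i * p x)).toMonoidHom := by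
  set v := p i * p x with hv
  have hvV : v ∈ V := M.duad_mem i x
  -- an element of `A` over a non-trivial kernel element, or its shift, lies in `A'`
  have hshift : ∀ n : ↥(Subgroup.normalizer (V : Set G)), (n : G) ∈ A → q n ≠ 1 →
      (n : G) ∈ A' ∨ (n : G) * (p x * p (q n x)) ∈ A' := by
    intro n hn hn1
    obtain ⟨n', hn', e⟩ := O'.onto _ (O.image n hn)
    have hw : (n : G)⁻¹ * (n' : G) ∈ V := by
      have : q (n⁻¹ * n') = 1 := by rw [map_mul, map_inv, e, inv_mul_cancel]
      exact (M.q_eq_one_iff _).1 this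
    have hn2 : (n : G)⁻¹ = n := inv_eq_of_mul_eq_one_right (hA.sq hn)
    rw [hn2] at hw
    have hcomm : (n : G) * (n' : G) * (n : G) = (n : G) * ((n : G) * (n' : G)) := by
      have h1 := M.sq hw
      have h2 : (n' : G)⁻¹ = n' := inv_eq_of_mul_eq_one_right (hA'.sq hn')
      calc (n : G) * (n' : G) * (n : G) = ((n : G) * n' * ((n : G) * n')) * (n' : G)⁻¹ := by group
        _ = (n : G) * ((n : G) * (n' : G)) := by rw [h1, h2, ← mul_assoc, hA.sq hn]
    rcases (M.fixed_of_kernel O.oct n (O.image n hn) hn1).2 x hx _ hw hcomm with h | h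
    · refine Or.inl ?_
      have := mul_mem hn' (inv_mem (O'.span_le M hA' h))
      rwa [mul_inv_rev, ← mul_assoc, mul_inv_cancel, one_mul, hn2] at this
    · refine Or.inr ?_
      have := mul_mem hn' (O'.span_le M hA' h)
      have h2 : (n' : G) * ((n : G) * n' * (p x * p (q n x))) = (n : G) * (p x * p (q n x)) := by
        calc (n' : G) * ((n : G) * n' * (p x * p (q n x)))
            = ((n' : G) * n * n') * (p x * p (q n x)) := by group
          _ = _ := by
            have h3 : (n' : G) * n = n * n' := by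
              have h4 := M.sq hw
              calc (n' : G) * n = (n' : G)⁻¹ * (n : G)⁻¹ := by
                    rw [hn2, inv_eq_of_mul_eq_one_right (hA'.sq hn')]
                _ = ((n : G) * n')⁻¹ := (mul_inv_rev _ _).symm
                _ = (n : G) * n' := inv_eq_of_mul_eq_one_right h4
            rw [h3, mul_assoc (n : G) _ _, hA'.sq hn', mul_one]
      rwa [h2] at this
  have hov : ∀ a ∈ A, a ∈ A ⊓ V → a ∈ A' := fun a _ ha => O'.span_le M hA' (O.inf ▸ ha)
  by_cases hall : ∀ n : ↥(Subgroup.normalizer (V : Set G)), (n : G) ∈ A → q n ≠ 1 → (n : G) ∈ A'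
  · refine Or.inl (Subgroup.eq_of_le_of_card_ge ?_ (by rw [hA.card, hA'.card])).symm
    intro a ha
    by_cases h1 : q ⟨a, O.le ha⟩ = 1
    · exact hov a ha (Subgroup.mem_inf.2 ⟨ha, (M.q_eq_one_iff _).1 h1⟩)
    · exact hall ⟨a, O.le ha⟩ ha h1
  push Not at hall
  obtain ⟨m, hm, hm1, hmA'⟩ := hall
  have hmP := (hshift m hm hm1).resolve_left hmA'
  have hmx : q m x ≠ x := fun e => hx ((kernel_fix O.oct (O.image m hm) hm1 x).1 e)
  have hnone : ∀ n : ↥(Subgroup.normalizer (V : Set G)), (n : G) ∈ A → q n ≠ 1 → (n : G) ∉ A' := by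
    intro n hn hn1 hnA'
    by_cases hsame : q n = q m
    · apply hmA'
      have hl : (n : G)⁻¹ * (m : G) ∈ A ⊓ V := Subgroup.mem_inf.2 ⟨mul_mem (inv_mem hn) hm,
        (M.q_eq_one_iff (n⁻¹ * m)).1 (by rw [map_mul, map_inv, hsame, inv_mul_cancel])⟩
      have := mul_mem hnA' (hov _ (Subgroup.mem_inf.1 hl).1 hl)
      rwa [mul_inv_cancel_left] at this
    · have hc := hA'.comm hnA' hmP
      have h2 : (n : G) * (p x * p (q m x)) = p x * p (q m x) * (n : G) := by
        have hc' : (m : G) * ((n : G) * (p x * p (q m x))) = (m : G) * (p x * p (q m x) * (n : G)) := by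
          rw [← mul_assoc, ← hA.comm hn hm, mul_assoc, hc, mul_assoc]
        exact mul_left_cancel hc'
      rcases (M.commute_duad_iff n hmx.symm).1 h2 with g | g
      · exact hx ((kernel_fix O.oct (O.image n hn) hn1 x).1 g.1)
      · exact hsame (kernel_eq_of_eq O.oct (O.image n hn) (O.image m hm) hx g.1)
  refine Or.inr (Subgroup.eq_of_le_of_card_ge ?_ (by rw [(hA.conj v).card, hA'.card])).symm
  rintro _ ⟨a, ha, rfl⟩
  show v * a * v⁻¹ ∈ A'
  by_cases h1 : q ⟨a, O.le ha⟩ = 1
  · have haV : a ∈ V := (M.q_eq_one_iff _).1 h1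
    rw [M.conj_V hvV haV]
    exact hov a ha (Subgroup.mem_inf.2 ⟨ha, haV⟩)
  · set n : ↥(Subgroup.normalizer (V : Set G)) := ⟨a, O.le ha⟩
    have hP := (hshift n ha h1).resolve_left (hnone n ha h1)
    have he : v * a * v⁻¹ = a * (p x * p (q n x)) := by
      have hfix : q n i = i := (mem_octadKernel.1 (O.image n ha)).2 i hi
      have hinv : q n⁻¹ = q n := by
        rw [map_inv, inv_eq_of_mul_eq_one_right (kernel_sq O.oct (O.image n ha))]
      have hact := M.act n⁻¹ i x (fun e => hx (e ▸ hi))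
      rw [hinv, hfix, Subgroup.coe_inv, inv_inv] at hact
      rw [inv_eq_of_mul_eq_one_right (M.sq hvV)]
      calc v * a * v = a * ((a⁻¹ * v * a) * v) := by group
        _ = _ := by
          rw [show a⁻¹ * v * a = p i * p (q n x) from hact, hv, M.duad_comm i (q n x), M.duad_mul,
            M.duad_comm]
    rw [he]; exact hP

/-- The part of `V` normalizing `A` has index two. -/
theorem mem_normalizer_or {u : G} (hu : u ∈ V) {i x : GolayPt} (hi : i ∈ o) (hx : x ∉ o) :
    u ∈ Subgroup.normalizer (A : Set G) ∨ (p i * p x)⁻¹ * u ∈ Subgroup.normalizer (A : Set G) := by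
  have huN : u ∈ Subgroup.normalizer (V : Set G) := M.le_normalizer hu
  have hq : q ⟨u, huN⟩ = 1 := (M.q_eq_one_iff _).2 hu
  have O' : Over p q o (A.map (MulAut.conj u).toMonoidHom) :=
    O.conj M hA ⟨u, huN⟩ O.oct (fun y => by rw [hq]; rfl)
  rcases O.eq_or_conj M hA O' (hA.conj u) hi hx with h | h
  · exact Or.inl (map_conj_eq_iff.1 h)
  · refine Or.inr (map_conj_eq_iff.1 ?_)
    rw [← map_conj_mul, h, map_conj_mul, inv_mul_cancel]
    ext y; simp

theorem outside_mem_normalizer {x y : GolayPt} (hx : x ∉ o) (hy : y ∉ o) :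
    p x * p y ∈ Subgroup.normalizer (A : Set G) := by
  obtain ⟨i, hi⟩ : o.Nonempty := Finset.card_pos.1 (by rw [card_octad O.oct]; omega)
  rcases O.mem_normalizer_or M hA (M.duad_mem x y) hi hx with h | h
  · exact h
  · rw [inv_eq_of_mul_eq_one_right (M.sq (M.duad_mem i x)), M.duad_mul] at h
    exact absurd h (O.notMem_normalizer M hA hi hy)

theorem card_inf : Nat.card ↥(V ⊓ Subgroup.normalizer (A : Set G)) = 2 ^ 10 := by
  obtain ⟨i, hi⟩ : o.Nonempty := Finset.card_pos.1 (by rw [card_octad O.oct]; omega)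
  obtain ⟨x, hx⟩ := exists_not_mem O.oct
  set v := p i * p x
  have hidx : ((V ⊓ Subgroup.normalizer (A : Set G)).subgroupOf V).index = 2 := by
    refine Subgroup.index_eq_two_iff.2 ⟨⟨v, M.duad_mem i x⟩, fun b => ?_⟩
    have hvn : v ∉ Subgroup.normalizer (A : Set G) := O.notMem_normalizer M hA hi hx
    simp only [Subgroup.mem_subgroupOf, Subgroup.mem_inf, Subgroup.coe_mul]
    by_cases hb : (b : G) ∈ Subgroup.normalizer (A : Set G)
    · refine Or.inr ⟨⟨b.2, hb⟩, fun h => hvn ?_⟩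
      have := mul_mem (inv_mem hb) h.2
      rwa [inv_mul_cancel_left] at this
    · refine Or.inl ⟨⟨mul_mem b.2 (M.duad_mem i x), ?_⟩, fun h => hb h.2⟩
      have h := (O.mem_normalizer_or M hA b.2 hi hx).resolve_left hb
      rwa [inv_eq_of_mul_eq_one_right (M.sq (M.duad_mem i x)), M.comm (M.duad_mem i x) b.2] at h
  have h := ((V ⊓ Subgroup.normalizer (A : Set G)).subgroupOf V).card_mul_index
  rw [hidx, M.card_V, Nat.card_congr (Subgroup.subgroupOfEquivOfLe inf_le_left).toEquiv] at h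
  omega

theorem exists_lift {s : Equiv.Perm GolayPt} (hs : s ∈ octadGroup o) :
    ∃ n : ↥(Subgroup.normalizer (V : Set G)), (n : G) ∈ Subgroup.normalizer (A : Set G) ∧ q n = s := by
  obtain ⟨i, hi⟩ : o.Nonempty := Finset.card_pos.1 (by rw [card_octad O.oct]; omega)
  obtain ⟨x, hx⟩ := exists_not_mem O.oct
  obtain ⟨n, hn⟩ := M.exists_lift (mem_octadGroup.1 hs).1
  have O' := O.conj M hA n O.oct (fun y => by rw [hn]; exact octad_mem_iff hs y)
  rcases O.eq_or_conj M hA O' (hA.conj _) hi hx with h | h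
  · exact ⟨n, map_conj_eq_iff.1 h, hn⟩
  · set v : ↥(Subgroup.normalizer (V : Set G)) := ⟨p i * p x, M.le_normalizer (M.duad_mem i x)⟩
    refine ⟨v⁻¹ * n, map_conj_eq_iff.1 ?_, by
      rw [map_mul, map_inv, (M.q_eq_one_iff v).2 (M.duad_mem i x), inv_one, one_mul, hn]⟩
    rw [Subgroup.coe_mul, Subgroup.coe_inv, ← map_conj_mul, h, map_conj_mul, inv_mul_cancel]
    ext y; simp

theorem image_normalizer (n : ↥(Subgroup.normalizer (V : Set G)))
    (hn : (n : G) ∈ Subgroup.normalizer (A : Set G)) : q n ∈ octadGroup o := by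
  obtain ⟨x, hx⟩ := exists_not_mem O.oct
  obtain ⟨y, hy, hyx⟩ : ∃ y, y ∉ o ∧ y ≠ x := by
    have hpos : 0 < ((Finset.univ \ o).erase x).card := by
      have := Finset.pred_card_le_card_erase (s := Finset.univ \ o) (a := x)
      rw [Finset.card_univ_sdiff, card_octad O.oct, show Fintype.card GolayPt = 24 from rfl] at this
      omega
    obtain ⟨y, hy⟩ := Finset.card_pos.1 hpos
    simp only [Finset.mem_erase, Finset.mem_sdiff] at hy
    exact ⟨y, hy.2.2, hy.1⟩
  obtain ⟨f, hf, hfx⟩ := exists_kernel_map O.oct hx hy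
  have hf1 : f ≠ 1 := fun e => hyx (by rw [← hfx, e]; rfl)
  obtain ⟨a, ha, rfl⟩ := O.onto f hf
  have hk : q (n * a * n⁻¹) ∈ octadKernel o :=
    O.image _ ((Subgroup.mem_normalizer_iff.1 hn _).1 ha)
  rw [map_mul, map_mul, map_inv] at hk
  refine mem_octadGroup.2 ⟨M.q_mem n, Finset.eq_of_subset_of_card_le (fun w hw => ?_)
    (Finset.card_smul_finset _ _).ge⟩
  obtain ⟨u, hu, rfl⟩ := Finset.mem_smul_finset.1 hw
  have hk1 : q n * q a * (q n)⁻¹ ≠ 1 := fun e => hf1 (conj_eq_one_iff.1 e)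
  rw [Equiv.Perm.smul_def, ← kernel_fix O.oct hk hk1, Equiv.Perm.mul_apply, Equiv.Perm.mul_apply,
    Equiv.Perm.inv_def, Equiv.symm_apply_apply, (kernel_fix O.oct hf hf1 u).2 hu]

end Over

/-- The self-centralizing `2 ^ 10` of `N(V)` are conjugate in `N(V)`. -/
theorem exists_conj_ten (M : Model z V p q) (hA : IsTen A) (hA' : IsTen A')
    (h : A ≤ Subgroup.normalizer (V : Set G)) (h' : A' ≤ Subgroup.normalizer (V : Set G)) :
    ∃ n ∈ Subgroup.normalizer (V : Set G), A.map (MulAut.conj n).toMonoidHom = A' := by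
  obtain ⟨o, O⟩ := M.exists_over hA h
  obtain ⟨o', O'⟩ := M.exists_over hA' h'
  obtain ⟨c, hc⟩ := CfsgLib.Golay.octad_transitive O.oct O'.oct
  obtain ⟨n, hn⟩ := M.exists_lift c.2
  have O'' := O.conj M hA n O'.oct (fun y => by
    rw [hn, ← hc]
    exact Finset.smul_mem_smul_finset_iff c)
  obtain ⟨i, hi⟩ : o'.Nonempty := Finset.card_pos.1 (by rw [card_octad O'.oct]; omega)
  obtain ⟨x, hx⟩ := exists_not_mem O'.oct
  rcases O''.eq_or_conj M (hA.conj _) O' hA' hi hx with e | e
  · exact ⟨n, n.2, e.symm⟩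
  · exact ⟨p i * p x * n, mul_mem (M.le_normalizer (M.duad_mem i x)) n.2, by rw [← map_conj_mul, e]⟩

end CfsgLib.JFour.TwoTen
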