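import Cfsg.Agent.Lib.JFour.TwoTen.Faithful
import Cfsg.Agent.Lib.JFour.TwoTen.Fixed
import Cfsg.Agent.Lib.JFour.TwoTen.Lift

/-!
# Self-centralizing elementary abelian `2 ^ 10`: double transitivity on the 31 frames
-/

set_option autoImplicit false
set_option linter.unusedSectionVars false
set_option linter.style.haveILetI false

open Cfsg

namespace CfsgLib.JFour.TwoTen

open CfsgLib.GolayStructure

variable {G : Type*} [Group G]

/-- A subgroup acting on all subgroups by conjugation. -/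
@[instance_reducible]
def conjSub (H : Subgroup G) : MulAction ↥H (Subgroup G) where
  smul n W := W.map (MulAut.conj (n : G)).toMonoidHom
  one_smul _ := map_conj_eq (one_mem _)
  mul_smul m n W := (conj_map_map W (m : G) (n : G)).symm

/-- A subgroup of index at most seven in a simple group of order 20160 is everything. -/
theorem eq_top_or_eight_le {Q : Type*} [Group Q] [Finite Q] [IsSimpleGroup Q] (hQ : Nat.card Q = 20160)
    (H : Subgroup Q) : H = ⊤ ∨ 8 ≤ H.index := by
  rcases (inferInstance : H.normalCore.Normal).eq_bot_or_eq_top with h | h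
  · refine Or.inr ?_
    by_contra hlt
    rw [Subgroup.normalCore_eq_ker, MonoidHom.ker_eq_bot_iff] at h
    have h1 := Nat.card_le_card_of_injective _ h
    rw [Nat.card_perm, hQ, ← Subgroup.index_eq_card] at h1
    have h2 : Nat.factorial H.index ≤ Nat.factorial 7 := Nat.factorial_le (by omega)
    norm_num [Nat.factorial] at h1 h2
    omega
  · exact Or.inl (top_le_iff.1 (h ▸ H.normalCore_le))

variable {z : G} {V A : Subgroup G} {p : GolayPt → G}
  {q : ↥(Subgroup.normalizer (V : Set G)) →* Equiv.Perm GolayPt} {o : Finset GolayPt}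

variable (M : Model z V p q) (O : Orbits z p q o A)
include O

theorem conj_tn {n : G} (hn : n ∈ Subgroup.normalizer (V : Set G) ⊓ Subgroup.normalizer (A : Set G)) :
    n ∈ Subgroup.normalizer ((V ⊓ Subgroup.normalizer (A : Set G) : Subgroup G) : Set G) :=
  Subgroup.inf_normalizer_le_normalizer_inf ⟨hn.1, Subgroup.le_normalizer hn.2⟩

include M

theorem tn_le : V ⊓ Subgroup.normalizer (A : Set G) ≤
    Subgroup.normalizer (V : Set G) ⊓ Subgroup.normalizer (A : Set G) :=
  inf_le_inf_right _ M.le_normalizer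

theorem inf_le_tn : A ⊓ V ≤ V ⊓ Subgroup.normalizer (A : Set G) :=
  le_inf inf_le_right (inf_le_left.trans Subgroup.le_normalizer)

theorem outside_mem (x : GolayPt) (hx : x ∉ o) {f : Equiv.Perm GolayPt} (hf : f ∈ octadKernel o) :
    p x * p (f x) ∈ V ⊓ Subgroup.normalizer (A : Set G) :=
  ⟨M.duad_mem _ _, O.outside x (f x) hx fun h =>
    hx ((octad_mem_iff (octadKernel_le o hf) x).1 h)⟩

theorem outside_conj {x : GolayPt} (hx : x ∉ o) {n : ↥(Subgroup.normalizer (V : Set G))}
    (hfix : q n x = x) {f g : Equiv.Perm GolayPt} (hf : f ∈ octadKernel o) (hg : g = q n * f * (q n)⁻¹) :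
    (n : G) * (p x * p (f x)) * (n : G)⁻¹ = p x * p (g x) := by
  have hy : (q n)⁻¹ x = x := by
    rw [← hfix, Equiv.Perm.inv_def, Equiv.symm_apply_apply, hfix]
  by_cases h : x = f x
  · rw [← h, M.sq (M.mem x), mul_one, mul_inv_cancel]
    rw [hg, Equiv.Perm.mul_apply, Equiv.Perm.mul_apply, hy, ← h, hfix, M.sq (M.mem x)]
  · rw [M.act n _ _ h, hfix, hg, Equiv.Perm.mul_apply, Equiv.Perm.mul_apply, hy]

/-- An element of the stabiliser moving one kernel translation to another. -/
theorem exists_outside_map {x : GolayPt} (hx : x ∉ o) {f g : Equiv.Perm GolayPt} (hf : f ∈ octadKernel o)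
    (hf1 : f ≠ 1) (hg : g ∈ octadKernel o) (hg1 : g ≠ 1) :
    ∃ n ∈ Subgroup.normalizer (V : Set G) ⊓ Subgroup.normalizer (A : Set G),
      n * (p x * p (f x)) * n⁻¹ = p x * p (g x) := by
  have ho := O.above.oct
  obtain ⟨s, hs, hsf⟩ := exists_conj_kernel ho hf hf1 hg hg1
  obtain ⟨k, hk, hkx⟩ := exists_kernel_map ho (x := s x) (y := x)
    (fun h => hx ((octad_mem_iff hs x).1 h)) hx
  obtain ⟨n, hn, hqn⟩ := O.lift (k * s) (mul_mem (octadKernel_le o hk) hs)
  refine ⟨n, ⟨n.2, hn⟩, outside_conj M O hx (by rw [hqn, Equiv.Perm.mul_apply, hkx]) hf ?_⟩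
  rw [hqn, mul_inv_rev, show k * s * f * (s⁻¹ * k⁻¹) = k * (s * f * s⁻¹) * k⁻¹ by group, hsf,
    kernel_comm ho hk hg, mul_inv_cancel_right]

theorem card_inf_span [Finite G] : Nat.card ↥(A ⊓ V) = 64 := by
  rw [O.above.inf, M.card_octSpan O.above.oct]; norm_num

/-- Two kernel translations differ outside the span of the octad. -/
theorem outside_inj [Finite G] {x : GolayPt} (hx : x ∉ o) {f g : Equiv.Perm GolayPt} (hf : f ∈ octadKernel o)
    (hg : g ∈ octadKernel o) (h : (p x * p (f x))⁻¹ * (p x * p (g x)) ∈ A) : f = g := by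
  by_contra hne
  have hfx : f x ∉ o := fun e => hx ((octad_mem_iff (octadKernel_le o hf) x).1 e)
  have hfg : f x ≠ g x := fun e => hne (kernel_eq_of_eq O.above.oct hf hg hx e)
  refine M.duad_outside_notMem O.above.oct hfx hfg ?_
  rw [inv_eq_of_mul_eq_one_right (M.sq (M.duad_mem _ _)), M.duad_comm x (f x), M.duad_mul] at h
  rw [← O.above.inf]
  exact ⟨h, M.duad_mem _ _⟩

theorem outside_not_mem [Finite G] {x : GolayPt} (hx : x ∉ o) {f : Equiv.Perm GolayPt} (hf : f ∈ octadKernel o)
    (hf1 : f ≠ 1) : p x * p (f x) ∉ A := fun h => hf1 (outside_inj M O hx (one_mem _) hf (by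
  rw [Equiv.Perm.one_apply, M.sq (M.mem x), inv_one, one_mul]; exact h)).symm

/-- Every element of `V` normalizing `A` is a kernel translation times an element of the span. -/
theorem exists_decomp [Finite G] {x : GolayPt} (hx : x ∉ o) {t : G}
    (ht : t ∈ V ⊓ Subgroup.normalizer (A : Set G)) :
    ∃ f ∈ octadKernel o, ∃ d ∈ A ⊓ V, t = p x * p (f x) * d := by
  classical
  let φ : ↥(octadKernel o) × ↥(A ⊓ V) → ↥(V ⊓ Subgroup.normalizer (A : Set G)) := fun fd =>
    ⟨p x * p ((fd.1 : Equiv.Perm GolayPt) x) * fd.2,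
      mul_mem (outside_mem M O x hx fd.1.2) (inf_le_tn M O fd.2.2)⟩
  have hinj : Function.Injective φ := by
    rintro ⟨f, d⟩ ⟨g, e⟩ h
    have h' : p x * p ((f : Equiv.Perm GolayPt) x) * (d : G) = p x * p ((g : Equiv.Perm GolayPt) x) * e :=
      congrArg Subtype.val h
    have hfg : f = g := Subtype.ext (outside_inj M O hx f.2 g.2 (by
      rw [show (p x * p ((f : Equiv.Perm GolayPt) x))⁻¹ * (p x * p ((g : Equiv.Perm GolayPt) x)) =
        (d : G) * (e : G)⁻¹ by
          rw [inv_mul_eq_iff_eq_mul, ← mul_assoc, h', mul_inv_cancel_right]]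
      exact mul_mem d.2.1 (inv_mem e.2.1)))
    subst hfg
    exact Prod.ext rfl (Subtype.ext (mul_left_cancel h'))
  have hb := (Nat.bijective_iff_injective_and_card φ).2 ⟨hinj, by
    rw [Nat.card_prod, card_kernel O.above.oct, card_inf_span M O, O.card_inf]; norm_num⟩
  obtain ⟨⟨f, d⟩, hfd⟩ := hb.2 ⟨t, ht⟩
  exact ⟨f, f.2, d, d.2, (congrArg Subtype.val hfd).symm⟩

/-- Counting the translations in a subgroup between the span and the whole. -/
theorem card_between [Finite G] {x : GolayPt} (hx : x ∉ o) {S : Subgroup G} (h1 : A ⊓ V ≤ S)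
    (h2 : S ≤ V ⊓ Subgroup.normalizer (A : Set G)) :
    Nat.card ↥S = 64 * Nat.card {f : ↥(octadKernel o) // p x * p ((f : Equiv.Perm GolayPt) x) ∈ S} := by
  classical
  let φ : {f : ↥(octadKernel o) // p x * p ((f : Equiv.Perm GolayPt) x) ∈ S} × ↥(A ⊓ V) → ↥S := fun fd =>
    ⟨p x * p ((fd.1.1 : Equiv.Perm GolayPt) x) * fd.2, mul_mem fd.1.2 (h1 fd.2.2)⟩
  have hb : Function.Bijective φ := by
    constructor
    · rintro ⟨⟨f, hf⟩, d⟩ ⟨⟨g, hg⟩, e⟩ h
      have h' : p x * p ((f : Equiv.Perm GolayPt) x) * (d : G) = p x * p ((g : Equiv.Perm GolayPt) x) * e :=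
        congrArg Subtype.val h
      have hfg : f = g := Subtype.ext (outside_inj M O hx f.2 g.2 (by
        rw [show (p x * p ((f : Equiv.Perm GolayPt) x))⁻¹ * (p x * p ((g : Equiv.Perm GolayPt) x)) =
          (d : G) * (e : G)⁻¹ by
            rw [inv_mul_eq_iff_eq_mul, ← mul_assoc, h', mul_inv_cancel_right]]
        exact mul_mem d.2.1 (inv_mem e.2.1)))
      subst hfg
      exact Prod.ext rfl (Subtype.ext (mul_left_cancel h'))
    · rintro ⟨s, hs⟩
      obtain ⟨f, hf, d, hd, e⟩ := exists_decomp M O hx (h2 hs)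
      refine ⟨⟨⟨⟨f, hf⟩, ?_⟩, ⟨d, hd⟩⟩, Subtype.ext e.symm⟩
      have := mul_mem hs (inv_mem (h1 hd))
      rwa [e, mul_inv_cancel_right] at this
  rw [← Nat.card_congr (Equiv.ofBijective φ hb), Nat.card_prod, card_inf_span M O, mul_comm]

/-- Every other frame is fixed by a kernel translation. -/
theorem exists_fixing {x : GolayPt} (hx : x ∉ o) {W : Subgroup G} (hW : W ∈ frames V A) (hWV : W ≠ V) :
    ∃ f ∈ octadKernel o, f ≠ 1 ∧ p x * p (f x) ∈ Subgroup.normalizer (W : Set G) := by
  have ho := O.above.oct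
  obtain ⟨n, hn, rfl⟩ := O.trans_frames W hW
  obtain ⟨a, ha, b, hb, hab⟩ := Finset.one_lt_card.1 (by rw [card_octad ho]; norm_num : 1 < o.card)
  set u := n * (p a * p b) * n⁻¹ with hu
  have huA : u ∈ A := conj_mem_A hn (duad_mem_inf O ha hb hab).1
  have hu1 : u ≠ 1 := fun h => M.duad_ne_one hab (conj_eq_one_iff.1 h)
  have huz : ¬ IsConj z u := fun h => M.duad_not_conj hab (h.trans (isConj_iff.2 ⟨n⁻¹, by rw [hu]; group⟩))
  have huW : u ∈ V.map (MulAut.conj n).toMonoidHom := ⟨_, M.duad_mem a b, rfl⟩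
  obtain ⟨W₀, -, huniq⟩ := O.unique_frame u huA hu1 huz
  have huV : u ∉ V := fun h => hWV ((huniq _ ⟨hW, huW⟩).trans (huniq V ⟨V_mem_frames O, h⟩).symm)
  let u' : ↥(Subgroup.normalizer (V : Set G)) := ⟨u, O.above.le huA⟩
  have hf := O.above.image u' huA
  have hf1 : q u' ≠ 1 := fun h => huV ((M.q_eq_one_iff u').1 h)
  refine ⟨q u', hf, hf1, ?_⟩
  have hxy : x ≠ q u' x := fun e => hx ((kernel_fix ho hf hf1 x).1 e.symm)
  have hff : q u' (q u' x) = x := by
    rw [← Equiv.Perm.mul_apply, kernel_sq ho hf, Equiv.Perm.one_apply]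
  have hcom : u * (p x * p (q u' x)) * u⁻¹ = p x * p (q u' x) := by
    have := M.act u' x (q u' x) hxy
    rw [hff] at this
    rw [show u = (u' : G) from rfl, this, M.duad_comm]
  set v := p x * p (q u' x) with hv
  have hvA : v ∈ Subgroup.normalizer (A : Set G) := (outside_mem M O x hx hf).2
  refine mem_normalizer_of_map_conj_eq ((huniq _ ⟨frames_conj hW hvA, conj_map_mem.2 ?_⟩).trans
    (huniq _ ⟨hW, huW⟩).symm)
  have : v⁻¹ * u * v = u := by
    rw [mul_assoc, mul_inv_eq_iff_eq_mul.1 hcom]; group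
  rw [this]
  exact huW

/-- The stabiliser of `V` is transitive on the other frames. -/
theorem exists_map_frame [Finite G] {W W' : Subgroup G} (hW : W ∈ frames V A) (hWV : W ≠ V)
    (hW' : W' ∈ frames V A) (hWV' : W' ≠ V) :
    ∃ n ∈ Subgroup.normalizer (V : Set G) ⊓ Subgroup.normalizer (A : Set G),
      W.map (MulAut.conj n).toMonoidHom = W' := by
  classical
  have ho := O.above.oct
  obtain ⟨x, hx⟩ := exists_not_mem ho
  set R := Subgroup.normalizer (V : Set G) ⊓ Subgroup.normalizer (A : Set G) with hR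
  set T := V ⊓ Subgroup.normalizer (A : Set G) with hT
  letI : MulAction ↥R (Subgroup G) := conjSub R
  have hsmul : ∀ (n : ↥R) (U : Subgroup G), n • U = U.map (MulAut.conj (n : G)).toMonoidHom := fun _ _ => rfl
  have hTR : T ≤ R := tn_le M O
  suffices h : ∃ W₀ ∈ frames V A, W₀ ≠ V ∧ MulAction.orbit ↥R W₀ = frames V A \ {V} by
    obtain ⟨W₀, -, -, horb⟩ := h
    have h1 : W ∈ MulAction.orbit ↥R W₀ := horb ▸ ⟨hW, hWV⟩
    have h2 : W' ∈ MulAction.orbit ↥R W₀ := horb ▸ ⟨hW', hWV'⟩
    obtain ⟨n, hn⟩ := (MulAction.orbit_eq_iff.2 h1).symm ▸ h2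
    exact ⟨n, n.2, hn⟩
  by_cases hall : ∀ U ∈ frames V A, T ≤ Subgroup.normalizer (U : Set G)
  · exfalso
    haveI : Nontrivial ↥(octadKernel o) :=
      Finite.one_lt_card_iff_nontrivial.1 (by rw [card_kernel ho]; norm_num)
    obtain ⟨f, hf⟩ := exists_ne (1 : ↥(octadKernel o))
    exact outside_not_mem M O hx f.2 (fun e => hf (Subtype.ext e))
      (mem_of_fix M O (outside_mem M O x hx f.2).2 fun U hU => hall U hU (outside_mem M O x hx f.2))
  push Not at hall
  obtain ⟨W₀, hW₀, hTW⟩ := hall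
  have hW₀V : W₀ ≠ V := fun e => hTW (by rw [e]; exact inf_le_left.trans M.le_normalizer)
  refine ⟨W₀, hW₀, hW₀V, ?_⟩
  have hsub : MulAction.orbit ↥R W₀ ⊆ frames V A \ {V} := by
    rintro _ ⟨n, rfl⟩
    refine ⟨frames_conj hW₀ n.2.2, fun e => hW₀V ?_⟩
    have h1 : n • W₀ = n • V := by
      rw [show n • V = V from map_conj_eq n.2.1]; exact e
    exact smul_left_cancel n h1
  have h30 : (frames V A \ {V}).ncard = 30 := by
    rw [Set.ncard_diff_singleton_of_mem (V_mem_frames O), O.card_frames]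
  refine Set.eq_of_subset_of_ncard_le hsub ?_ (Set.toFinite _)
  rw [h30, ← MulAction.index_stabilizer]
  set S := T ⊓ Subgroup.normalizer (W₀ : Set G) with hS
  set H1 := MulAction.stabilizer ↥R W₀ with hH1
  set H2 := MulAction.stabilizer ↥R S with hH2
  have h1eq : H1 = (Subgroup.normalizer (W₀ : Set G)).subgroupOf R := by
    ext n
    exact ⟨fun h => mem_normalizer_of_map_conj_eq h, fun h => map_conj_eq h⟩
  have hmemH2 : ∀ n : ↥R, (n : G) ∈ Subgroup.normalizer (S : Set G) → n ∈ H2 := fun n h => map_conj_eq h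
  have h12 : H1 ≤ H2 := fun n hn => hmemH2 n (Subgroup.inf_normalizer_le_normalizer_inf
    ⟨conj_tn O n.2, Subgroup.le_normalizer (mem_normalizer_of_map_conj_eq hn)⟩)
  have hT2 : T.subgroupOf R ≤ H2 := fun n hn => hmemH2 n (by
    have hn' : (n : G) ∈ T := hn
    refine Subgroup.mem_normalizer_iff.2 fun y => ?_
    have key : ∀ w ∈ S, ∀ t ∈ T, t * w * t⁻¹ = w := fun w hw t ht => by
      rw [M.comm ht.1 hw.1.1, mul_inv_cancel_right]
    refine ⟨fun hy => by rw [key y hy _ hn']; exact hy, fun hy => ?_⟩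
    have := key _ hy _ (inv_mem hn')
    rw [inv_inv, show (n : G)⁻¹ * ((n : G) * y * (n : G)⁻¹) * (n : G) = y by group] at this
    rw [this]; exact hy)
  have hrel : S.relIndex T ≤ H1.relIndex H2 := by
    rw [hS, inf_comm, Subgroup.inf_relIndex_right, ← Subgroup.relIndex_subgroupOf hTR, ← h1eq]
    exact Subgroup.relIndex_le_of_le_right hT2 Subgroup.index_ne_zero_of_finite
  have hmul : H1.relIndex H2 * H2.index = H1.index := Subgroup.relIndex_mul_index h12
  have hle30 : H1.index ≤ 30 := by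
    rw [hH1, MulAction.index_stabilizer, ← h30]
    exact Set.ncard_le_ncard hsub (Set.toFinite _)
  have hDS : A ⊓ V ≤ S := le_inf (inf_le_tn M O) (inf_le_left.trans hW₀.2)
  obtain ⟨f₀, hf₀, hf₀1, hf₀W⟩ := exists_fixing M O hx hW₀ hW₀V
  -- the translation stabiliser is moved
  have hH2top : H2 ≠ ⊤ := by
    intro htop
    refine hTW fun t ht => ?_
    obtain ⟨g, hg, d, hd, rfl⟩ := exists_decomp M O hx ht
    refine mul_mem ?_ (hW₀.2 hd.1)
    by_cases hg1 : g = 1
    · rw [hg1, Equiv.Perm.one_apply, M.sq (M.mem x)]; exact one_mem _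
    obtain ⟨n, hn, e⟩ := exists_outside_map M O hx hf₀ hf₀1 hg hg1
    have hnS : (⟨n, hn⟩ : ↥R) ∈ H2 := htop ▸ Subgroup.mem_top _
    rw [← e]
    exact (conj_mem_of_normalizer (mem_normalizer_of_map_conj_eq hnS)
      (⟨outside_mem M O x hx hf₀, hf₀W⟩ : _ ∈ S)).2
  have h8 : 8 ≤ H2.index := by
    haveI : IsSimpleGroup ↥(alternatingGroup ↥o) := alternatingGroup.isSimpleGroup (by
      rw [Nat.card_eq_fintype_card, Fintype.card_coe, card_octad ho]; norm_num)
    haveI : Nontrivial ↥o := Fintype.one_lt_card_iff_nontrivial.1 (by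
      rw [Fintype.card_coe, card_octad ho]; norm_num)
    have h20 : Nat.card ↥(alternatingGroup ↥o) = 20160 := by
      rw [nat_card_alternatingGroup, Nat.card_eq_fintype_card, Fintype.card_coe, card_octad ho]
      rfl
    have hker : (restr O).ker ≤ H2 := by
      intro n hn
      obtain ⟨a, ha, t, ht, e⟩ := exists_mul M O n.2 ((restr_eq_one_iff O n).1 hn)
      have hn2 : n = ⟨a, A_le O ha⟩ * ⟨t, hTR ht⟩ := Subtype.ext e
      rw [hn2]
      refine mul_mem (h12 ?_) (hT2 ht)
      rw [h1eq]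
      exact hW₀.2 ha
    have he : (H2.map (restr O)).index = H2.index :=
      Subgroup.index_map_eq _ (restr_surjective O) hker
    rcases eq_top_or_eight_le h20 (H2.map (restr O)) with h | h
    · refine absurd ?_ hH2top
      rw [← Subgroup.index_eq_one, ← he, h, Subgroup.index_top]
    · rwa [he] at h
  have hST : S.relIndex T = 2 := by
    have hdvd : S.relIndex T * Nat.card ↥(S.subgroupOf T) = 2 ^ 10 := by
      rw [Subgroup.relIndex, Subgroup.index_mul_card, hT, O.card_inf]
    have hne : S.relIndex T ≠ 1 := fun h => hTW ((Subgroup.relIndex_eq_one.1 h).trans inf_le_right)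
    have h4 : S.relIndex T ≤ 3 := by
      have : S.relIndex T * 8 ≤ 30 := (Nat.mul_le_mul hrel h8).trans (hmul.le.trans hle30)
      omega
    obtain ⟨k, hk, he⟩ := (Nat.dvd_prime_pow Nat.prime_two).1 ⟨_, hdvd.symm⟩
    rcases k with _ | _ | k
    · simp [he] at hne
    · exact he
    · rw [he, pow_succ, pow_succ] at h4
      have := Nat.one_le_two_pow (n := k)
      omega
  -- the conjugates of `S` are all fifteen hyperplanes
  have h15 : 15 ∣ H2.index := by
    haveI := Fintype.ofFinite (MulAction.orbit ↥R S)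
    let K1 : Finset ↥(octadKernel o) := Finset.univ.filter fun f => f ≠ 1
    have hK1 : K1.card = 15 := by
      show (Finset.univ.filter fun f : ↥(octadKernel o) => f ≠ 1).card = 15
      rw [Finset.filter_ne' Finset.univ (1 : ↥(octadKernel o)), Finset.card_erase_of_mem (Finset.mem_univ _),
        Finset.card_univ, ← Nat.card_eq_fintype_card, card_kernel ho]
    let P : ↥(MulAction.orbit ↥R S) → ↥(octadKernel o) → Prop := fun U f =>
      p x * p ((f : Equiv.Perm GolayPt) x) ∈ (U : Subgroup G)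
    have habove : ∀ U ∈ (Finset.univ : Finset ↥(MulAction.orbit ↥R S)), (K1.bipartiteAbove P U).card = 7 := by
      rintro ⟨_, n, rfl⟩ -
      have hnT : ∀ y ∈ (n • S : Subgroup G), y ∈ T := by
        rintro _ ⟨s, hs, rfl⟩
        exact conj_mem_of_normalizer (conj_tn O n.2) hs.1
      have hnD : A ⊓ V ≤ (n • S : Subgroup G) := fun d hd => conj_map_mem.2 (hDS ⟨by
        have := conj_mem_A (inv_mem n.2.2) hd.1
        rwa [inv_inv] at this, by
        have := conj_mem_of_normalizer (inv_mem n.2.1) hd.2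
        rwa [inv_inv] at this⟩)
      have hc := card_between M O hx hnD hnT
      have hcS : Nat.card ↥(n • S : Subgroup G) = 512 := by
        have h1 : Nat.card ↥(n • S : Subgroup G) = Nat.card ↥S :=
          (Nat.card_congr (S.equivMapOfInjective _ (MulAut.conj (n : G)).injective).toEquiv).symm
        have h2 : S.relIndex T * Nat.card ↥(S.subgroupOf T) = 2 ^ 10 := by
          rw [Subgroup.relIndex, Subgroup.index_mul_card, hT, O.card_inf]
        rw [hST, Nat.card_congr (Subgroup.subgroupOfEquivOfLe (inf_le_left : S ≤ T)).toEquiv] at h2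
        exact h1.trans (Nat.eq_of_mul_eq_mul_left two_pos (h2.trans (by norm_num : 2 ^ 10 = 2 * 512)))
      rw [hcS] at hc
      have h8' : (Finset.univ.filter fun f => P ⟨n • S, n, rfl⟩ f).card = 8 := by
        rw [← Fintype.card_subtype, ← Nat.card_eq_fintype_card]
        exact (Nat.eq_of_mul_eq_mul_left (by norm_num : 0 < 64) ((by norm_num : 64 * 8 = 512).trans hc)).symm
      have h1P : (1 : ↥(octadKernel o)) ∈ Finset.univ.filter fun f => P ⟨n • S, n, rfl⟩ f := by
        refine Finset.mem_filter.2 ⟨Finset.mem_univ _, ?_⟩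
        show p x * p x ∈ (n • S : Subgroup G)
        rw [M.sq (M.mem x)]; exact one_mem _
      have : K1.bipartiteAbove P ⟨n • S, n, rfl⟩ = (Finset.univ.filter fun f => P ⟨n • S, n, rfl⟩ f).erase 1 := by
        ext f; simp [K1, Finset.bipartiteAbove, and_comm]
      rw [this, Finset.card_erase_of_mem h1P, h8']
    have hle : ∀ f ∈ K1, ∀ g ∈ K1, ((Finset.univ : Finset ↥(MulAction.orbit ↥R S)).bipartiteBelow P f).card ≤
        ((Finset.univ : Finset ↥(MulAction.orbit ↥R S)).bipartiteBelow P g).card := by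
      intro f hf g hg
      obtain ⟨n, hn, e⟩ := exists_outside_map M O hx f.2
        (fun h => (Finset.mem_filter.1 hf).2 (Subtype.ext h)) g.2
        (fun h => (Finset.mem_filter.1 hg).2 (Subtype.ext h))
      refine Finset.card_le_card_of_injOn (fun U => (⟨n, hn⟩ : ↥R) • U) (fun U hU => ?_)
        (fun U _ U' _ h => smul_left_cancel _ h)
      have hU' : p x * p ((f : Equiv.Perm GolayPt) x) ∈ (U : Subgroup G) := (Finset.mem_filter.1 hU).2
      refine Finset.mem_filter.2 ⟨Finset.mem_univ _, ?_⟩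
      show p x * p ((g : Equiv.Perm GolayPt) x) ∈ ((⟨n, hn⟩ : ↥R) • U : ↥(MulAction.orbit ↥R S)).1
      rw [← e]
      exact ⟨_, hU', rfl⟩
    obtain ⟨f₁, hf₁⟩ := Finset.card_pos.1 (by rw [hK1]; norm_num : 0 < K1.card)
    have hsum := Finset.sum_card_bipartiteAbove_eq_sum_card_bipartiteBelow P
      (s := (Finset.univ : Finset ↥(MulAction.orbit ↥R S))) (t := K1)
    rw [Finset.sum_const_nat habove,
      Finset.sum_const_nat (fun g hg => le_antisymm (hle g hg f₁ hf₁) (hle f₁ hf₁ g hg)),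
      hK1, Finset.card_univ, ← Nat.card_eq_fintype_card, Nat.card_coe_set_eq] at hsum
    rw [hH2, MulAction.index_stabilizer]
    exact (Nat.Coprime.dvd_mul_right (by norm_num : Nat.Coprime 15 7)).1 ⟨_, hsum⟩
  have h15' := Nat.le_of_dvd (by omega) h15
  rw [hST] at hrel
  calc (30 : ℕ) = 2 * 15 := rfl
    _ ≤ H1.relIndex H2 * H2.index := Nat.mul_le_mul hrel h15'
    _ = H1.index := hmul

/-- `N(A)` is doubly transitive on the frames. -/
theorem exists_two_frames [Finite G] {W₁ W₂ U₁ U₂ : Subgroup G} (hW₁ : W₁ ∈ frames V A)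
    (hW₂ : W₂ ∈ frames V A) (hW : W₁ ≠ W₂) (hU₁ : U₁ ∈ frames V A) (hU₂ : U₂ ∈ frames V A) (hU : U₁ ≠ U₂) :
    ∃ n ∈ Subgroup.normalizer (A : Set G),
      W₁.map (MulAut.conj n).toMonoidHom = U₁ ∧ W₂.map (MulAut.conj n).toMonoidHom = U₂ := by
  obtain ⟨m, hm, rfl⟩ := O.trans_frames W₁ hW₁
  obtain ⟨k, hk, rfl⟩ := O.trans_frames U₁ hU₁
  have back : ∀ m ∈ Subgroup.normalizer (A : Set G), ∀ W ∈ frames V A, V.map (MulAut.conj m).toMonoidHom ≠ W →
      W.map (MulAut.conj m⁻¹).toMonoidHom ≠ V := by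
    intro m _ W _ hne e
    apply hne
    rw [← e, conj_map_map, mul_inv_cancel, map_conj_eq (one_mem _)]
  obtain ⟨r, hr, e⟩ := exists_map_frame M O (frames_conj hW₂ (inv_mem hm)) (back m hm _ hW₂ hW)
    (frames_conj hU₂ (inv_mem hk)) (back k hk _ hU₂ hU)
  refine ⟨k * r * m⁻¹, mul_mem (mul_mem hk hr.2) (inv_mem hm), ?_, ?_⟩
  · rw [conj_map_map, show k * r * m⁻¹ * m = k * r by group, ← conj_map_map, map_conj_eq hr.1]
  · rw [← conj_map_map, ← conj_map_map, e, conj_map_map, mul_inv_cancel, map_conj_eq (one_mem _)]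

/-- The order of the stabiliser of `V` in `N(A)`. -/
theorem card_stab [Finite G] :
    Nat.card ↥(Subgroup.normalizer (V : Set G) ⊓ Subgroup.normalizer (A : Set G)) = 322560 * 1024 := by
  let R := Subgroup.normalizer (V : Set G) ⊓ Subgroup.normalizer (A : Set G)
  let θ : ↥R →* ↥(octadGroup o) :=
    (q.comp (Subgroup.inclusion inf_le_left)).codRestrict (octadGroup o) fun n => O.image _ n.2.2
  have hθ : Function.Surjective θ := fun s => by
    obtain ⟨n, hn, e⟩ := O.lift s s.2
    exact ⟨⟨n, n.2, hn⟩, Subtype.ext e⟩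
  have hker : θ.ker = (V ⊓ Subgroup.normalizer (A : Set G)).subgroupOf R := by
    ext n
    rw [MonoidHom.mem_ker, Subgroup.mem_subgroupOf]
    exact ⟨fun h => ⟨(M.q_eq_one_iff _).1 (congrArg Subtype.val h), n.2.2⟩,
      fun h => Subtype.ext ((M.q_eq_one_iff _).2 h.1)⟩
  have h := θ.ker.card_eq_card_quotient_mul_card_subgroup
  rw [Nat.card_congr (QuotientGroup.quotientKerEquivOfSurjective θ hθ).toEquiv,
    card_octadGroup O.above.oct, hker,
    Nat.card_congr (Subgroup.subgroupOfEquivOfLe (tn_le M O)).toEquiv, O.card_inf] at h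
  exact h

/-- The order of `N(A)`. -/
theorem card_normalizer [Finite G] :
    Nat.card ↥(Subgroup.normalizer (A : Set G)) = 31 * (322560 * 1024) := by
  set NA := Subgroup.normalizer (A : Set G) with hNA
  letI : MulAction ↥NA (Subgroup G) := conjSub NA
  have horb : MulAction.orbit ↥NA V = frames V A := by
    ext W
    constructor
    · rintro ⟨n, rfl⟩
      exact frames_conj (V_mem_frames O) n.2
    · intro hW
      obtain ⟨n, hn, e⟩ := O.trans_frames W hW
      exact ⟨⟨n, hn⟩, e⟩
  have hst : MulAction.stabilizer ↥NA V =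
      (Subgroup.normalizer (V : Set G) ⊓ NA).subgroupOf NA := by
    ext n
    exact ⟨fun h => ⟨mem_normalizer_of_map_conj_eq h, n.2⟩, fun h => map_conj_eq h.1⟩
  have h := (MulAction.stabilizer ↥NA V).index_mul_card
  rw [MulAction.index_stabilizer, horb, O.card_frames, hst,
    Nat.card_congr (Subgroup.subgroupOfEquivOfLe inf_le_right).toEquiv, card_stab M O] at h
  exact h.symm

end CfsgLib.JFour.TwoTen
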