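import Cfsg.Agent.Lib.JFour.TwoTen.Fixed

/-!
# A self-centralizing `2 ^ 10` of `N(V)` lies over an octad kernel
-/

set_option autoImplicit false
set_option linter.unusedSectionVars false
set_option linter.style.haveILetI false

open Cfsg
open scoped Pointwise

namespace CfsgLib.JFour.TwoTen

open CfsgLib.GolayStructure

/-- An elementary abelian permutation group moving only the points of `S` has order at most `2 ^ (|S| / 2)`. -/
theorem sq_card_le {X : Type*} [Fintype X] [DecidableEq X] :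
    ∀ (n : ℕ) (S : Finset X) (H : Subgroup (Equiv.Perm X)), S.card ≤ n →
      (∀ h ∈ H, h * h = 1) → (∀ g ∈ H, ∀ h ∈ H, g * h = h * g) → (∀ h ∈ H, ∀ x, x ∉ S → h x = x) →
      Nat.card ↥H * Nat.card ↥H ≤ 2 ^ S.card := by
  intro n
  induction n with
  | zero =>
    intro S H hS _ _ hfix
    have : H = ⊥ := by
      rw [Subgroup.eq_bot_iff_forall]
      exact fun h hh => Equiv.ext fun x => hfix h hh x (by simp [Finset.card_eq_zero.1 (Nat.le_zero.1 hS)])
    subst this
    simp [Finset.card_eq_zero.1 (Nat.le_zero.1 hS)]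
  | succ n ih =>
    intro S H hS hsq hcomm hfix
    classical
    by_cases hbot : H = ⊥
    · subst hbot; simp [Nat.one_le_two_pow]
    obtain ⟨⟨h₀, hh₀⟩, hne'⟩ := Subgroup.ne_bot_iff_exists_ne_one.1 hbot
    have hne : h₀ ≠ 1 := fun e => hne' (Subtype.ext e)
    obtain ⟨x, hx⟩ : ∃ x, h₀ x ≠ x := by
      by_contra h
      push Not at h
      exact hne (Equiv.ext h)
    have hxS : x ∈ S := by_contra fun h => hx (hfix h₀ hh₀ x h)
    let orbX : Finset X := Finset.univ.filter fun y => ∃ h ∈ H, h x = y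
    have hxo : x ∈ orbX := Finset.mem_filter.2 ⟨Finset.mem_univ _, 1, H.one_mem, rfl⟩
    have hx₁o : h₀ x ∈ orbX := Finset.mem_filter.2 ⟨Finset.mem_univ _, h₀, hh₀, rfl⟩
    have hsub : orbX ⊆ S := fun y hy => by
      obtain ⟨-, h, hh, rfl⟩ := Finset.mem_filter.1 hy
      by_contra hy'
      have := hfix h hh _ hy'
      exact hy' ((h.injective this).symm ▸ hxS)
    let K : Subgroup (Equiv.Perm X) := H ⊓ MulAction.stabilizer (Equiv.Perm X) x
    have hmul : Nat.card ↥H = orbX.card * Nat.card ↥K := by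
      have h1 := MulAction.card_orbit_mul_card_stabilizer_eq_card_group ↥H x
      rw [← Nat.card_eq_fintype_card, ← Nat.card_eq_fintype_card, ← Nat.card_eq_fintype_card] at h1
      rw [← h1]
      congr 1
      · rw [Nat.card_eq_fintype_card, ← Fintype.card_coe orbX]
        refine Fintype.card_congr (Equiv.subtypeEquivRight fun y => ?_)
        simp only [orbX, Finset.mem_filter, Finset.mem_univ, true_and, MulAction.mem_orbit_iff]
        exact ⟨fun ⟨h, hh⟩ => ⟨h.1, h.2, hh⟩, fun ⟨h, hh, e⟩ => ⟨⟨h, hh⟩, e⟩⟩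
      · exact Nat.card_congr
          { toFun := fun k => ⟨k.1.1, Subgroup.mem_inf.2 ⟨k.1.2, k.2⟩⟩
            invFun := fun k => ⟨⟨k.1, (Subgroup.mem_inf.1 k.2).1⟩, (Subgroup.mem_inf.1 k.2).2⟩
            left_inv := fun _ => rfl
            right_inv := fun _ => rfl }
    have hKfix : ∀ k ∈ K, ∀ y, y ∉ S \ orbX → k y = y := by
      intro k hk y hy
      obtain ⟨hkH, hkx⟩ := Subgroup.mem_inf.1 hk
      by_cases hyS : y ∈ S
      · have hyo : y ∈ orbX := by
          by_contra h; exact hy (Finset.mem_sdiff.2 ⟨hyS, h⟩)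
        obtain ⟨-, h, hh, rfl⟩ := Finset.mem_filter.1 hyo
        rw [← Equiv.Perm.mul_apply, hcomm k hkH h hh, Equiv.Perm.mul_apply]
        exact congrArg h hkx
      · exact hfix k hkH y hyS
    have hm2 : 2 ≤ orbX.card := by
      rw [show (2 : ℕ) = ({x, h₀ x} : Finset X).card by rw [Finset.card_pair hx.symm]]
      exact Finset.card_le_card (by
        intro y hy
        rcases Finset.mem_insert.1 hy with rfl | hy
        · exact hxo
        · rw [Finset.mem_singleton.1 hy]; exact hx₁o)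
    have hcS : (S \ orbX).card + orbX.card = S.card := Finset.card_sdiff_add_card_eq_card hsub
    have hrec := ih (S \ orbX) K (by omega) (fun k hk => hsq k (Subgroup.mem_inf.1 hk).1)
      (fun a ha b hb => hcomm a (Subgroup.mem_inf.1 ha).1 b (Subgroup.mem_inf.1 hb).1) hKfix
    have hm : orbX.card * orbX.card ≤ 2 ^ orbX.card := by
      haveI : Fact (Nat.Prime 2) := ⟨Nat.prime_two⟩
      have hp : IsPGroup 2 ↥H := fun h => ⟨1, Subtype.ext (by
        rw [pow_one, pow_two]; exact hsq h.1 h.2)⟩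
      obtain ⟨k, hk⟩ := hp.exists_card_eq
      obtain ⟨j, -, hj⟩ := (Nat.dvd_prime_pow Nat.prime_two).1 (hk ▸ hmul ▸ Dvd.intro _ rfl : orbX.card ∣ 2 ^ k)
      rw [hj]
      rcases j with _ | _ | j
      · norm_num
      · norm_num
      · rw [← pow_add]
        refine Nat.pow_le_pow_right (by norm_num) ?_
        clear * -
        induction j with
        | zero => norm_num
        | succ i ihi =>
          rw [pow_succ (n := i + 1 + 1)]
          omega
    calc Nat.card ↥H * Nat.card ↥H = (orbX.card * orbX.card) * (Nat.card ↥K * Nat.card ↥K) := by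
          rw [hmul]; ring
      _ ≤ 2 ^ orbX.card * 2 ^ (S \ orbX).card := Nat.mul_le_mul hm hrec
      _ = 2 ^ S.card := by rw [← pow_add, add_comm, hcS]

variable {o : Finset GolayPt}

/-- An element of order two on an octad moves four or eight of its points. -/
theorem card_moved (ho : o ∈ octads) {s : Equiv.Perm GolayPt} (hs : s ∈ octadGroup o)
    (h2 : ∀ x ∈ o, s (s x) = x) {x₀ : GolayPt} (hx₀ : x₀ ∈ o) (hmv : s x₀ ≠ x₀) :
    (o.filter fun x => s x ≠ x).card = 4 ∨ (o.filter fun x => s x ≠ x).card = 8 := by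
  classical
  set π : Equiv.Perm ↥o := octadRestrict o ⟨s, hs⟩ with hπ
  have happ : ∀ x : ↥o, ((π x : ↥o) : GolayPt) = s x := fun x => rfl
  have hπalt : π ∈ alternatingGroup ↥o := by rw [← octadRestrict_range ho]; exact ⟨_, rfl⟩
  have hπ2 : orderOf π = 2 := orderOf_eq_prime
    (Equiv.ext fun x => Subtype.ext (by
      rw [pow_two, Equiv.Perm.mul_apply, happ, happ, h2 x x.2]; rfl))
    (fun h => hmv (by
      have := congrArg Subtype.val (DFunLike.congr_fun h (⟨x₀, hx₀⟩ : ↥o))
      rwa [happ] at this))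
  obtain ⟨m, hm⟩ := Equiv.Perm.cycleType_prime_order (hπ2 ▸ Nat.prime_two : (orderOf π).Prime)
  rw [hπ2] at hm
  have hsign : Equiv.Perm.sign π = 1 := Equiv.Perm.mem_alternatingGroup.1 hπalt
  rw [Equiv.Perm.sign_of_cycleType, hm] at hsign
  have hsupp : π.support.card = 2 * (m + 1) := by
    rw [← Equiv.Perm.sum_cycleType, hm, Multiset.sum_replicate, smul_eq_mul, mul_comm]
  have hsuppo : π.support.card = (o.filter fun x => s x ≠ x).card := by
    rw [← Finset.card_map (Function.Embedding.subtype (· ∈ o))]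
    congr 1
    ext x
    simp only [Finset.mem_map, Finset.mem_filter, Equiv.Perm.mem_support, Function.Embedding.coe_subtype]
    constructor
    · rintro ⟨y, hy, rfl⟩
      exact ⟨y.2, fun e => hy (Subtype.ext e)⟩
    · rintro ⟨hx, hne⟩
      exact ⟨⟨x, hx⟩, fun e => hne (congrArg Subtype.val e), rfl⟩
  have hle : (o.filter fun x => s x ≠ x).card ≤ 8 := (card_octad ho) ▸ Finset.card_filter_le _ _
  have hm3 : m ≤ 3 := by omega
  have hsign' := congrArg Units.val hsign
  simp only [Units.val_pow_eq_pow_val, Units.val_neg, Units.val_one, Multiset.sum_replicate,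
    Multiset.card_replicate, smul_eq_mul] at hsign'
  interval_cases m <;> norm_num at hsign' <;> omega

variable {G : Type*} [Group G] [Finite G] {z : G} {V : Subgroup G} {p : GolayPt → G}
  {q : ↥(Subgroup.normalizer (V : Set G)) →* Equiv.Perm GolayPt}

namespace Model

variable (M : Model z V p q)
include M

/-- An element moving the octad fixes at most 16 elements of its span. -/
theorem card_span_fixed_le (ho : o ∈ octads) (n : ↥(Subgroup.normalizer (V : Set G)))
    (hn : q n ∈ octadGroup o) (h2 : ∀ x ∈ o, q n (q n x) = x) {x₀ : GolayPt} (hx₀ : x₀ ∈ o)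
    (hmv : q n x₀ ≠ x₀) :
    Nat.card ↥(octSpan p o ⊓ Subgroup.centralizer ({(n : G)} : Set G)) ≤ 16 := by
  classical
  set f := q n with hf
  set L := octSpan p o with hL
  let φ : ↥L →* ↥V := (M.comMap n).comp (Subgroup.inclusion (M.octSpan_le o))
  have hmem : ∀ {a : GolayPt}, a ∈ o → f a ∈ o := fun {a} ha => (octad_mem_iff hn a).2 ha
  have hval : ∀ a b (ha : a ∈ o) (hb : b ∈ o) (hab : a ≠ b),
      (φ ⟨p a * p b, duad_mem_octSpan p ha hb hab⟩ : G) = p (f a) * p (f b) * (p a * p b) := by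
    intro a b ha hb hab
    show (n : G) * (p a * p b) * (n : G)⁻¹ * (p a * p b) = _
    rw [M.act n a b hab]
  have hker : Nat.card ↥φ.ker = Nat.card ↥(L ⊓ Subgroup.centralizer ({(n : G)} : Set G)) :=
    Nat.card_congr
      { toFun := fun v => ⟨(v.1 : G), Subgroup.mem_inf.2 ⟨v.1.2, (M.mem_ker_comMap n _).1 v.2⟩⟩
        invFun := fun v => ⟨⟨v.1, (Subgroup.mem_inf.1 v.2).1⟩,
          (M.mem_ker_comMap n ⟨v.1, M.octSpan_le o (Subgroup.mem_inf.1 v.2).1⟩).2 (Subgroup.mem_inf.1 v.2).2⟩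
        left_inv := fun _ => rfl
        right_inv := fun _ => rfl }
  have hprod := Subgroup.card_eq_card_quotient_mul_card_subgroup φ.ker
  rw [Nat.card_congr (QuotientGroup.quotientKerEquivRange φ).toEquiv, hker, M.card_octSpan ho] at hprod
  suffices 3 ≤ Nat.card ↥φ.range by
    obtain ⟨k, -, hk⟩ := (Nat.dvd_prime_pow Nat.prime_two).1
      (Dvd.intro _ hprod.symm : Nat.card ↥φ.range ∣ 2 ^ 6)
    rw [hk] at this hprod
    have hk2 : 2 ≤ k := by
      by_contra h; interval_cases k <;> omega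
    have h4 : 4 ≤ 2 ^ k := Nat.pow_le_pow_right (by norm_num) hk2 |>.trans' (by norm_num)
    nlinarith [Nat.mul_le_mul_right (Nat.card ↥(L ⊓ Subgroup.centralizer ({(n : G)} : Set G))) h4]
  -- two different non-trivial commutators
  obtain ⟨u, v, hu, hv, hu1, hv1, huv⟩ : ∃ u v : G, u ∈ φ.range.map V.subtype ∧ v ∈ φ.range.map V.subtype ∧
      u ≠ 1 ∧ v ≠ 1 ∧ u ≠ v := by
    set Mv := o.filter fun x => f x ≠ x with hMv
    have hc : 4 ≤ Mv.card := by
      have h48 := card_moved ho hn h2 hx₀ hmv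
      simp only [hMv, ne_eq] at h48 ⊢
      omega
    have hmemR : ∀ a b (ha : a ∈ o) (hb : b ∈ o), a ≠ b →
        p (f a) * p (f b) * (p a * p b) ∈ φ.range.map V.subtype := fun a b ha hb hab =>
      ⟨φ ⟨_, duad_mem_octSpan p ha hb hab⟩, ⟨_, rfl⟩, hval a b ha hb hab⟩
    obtain ⟨y, hyM, hy1, hy2⟩ : ∃ y ∈ Mv, y ≠ x₀ ∧ y ≠ f x₀ := by
      have hpos : 0 < ((Mv.erase x₀).erase (f x₀)).card := by
        have := Finset.pred_card_le_card_erase (s := Mv.erase x₀) (a := f x₀)
        have := Finset.pred_card_le_card_erase (s := Mv) (a := x₀)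
        omega
      obtain ⟨y, hy⟩ := Finset.card_pos.1 hpos
      simp only [Finset.mem_erase] at hy
      exact ⟨y, hy.2.2, hy.2.1, hy.1⟩
    obtain ⟨hyo, hfy⟩ := Finset.mem_filter.1 hyM
    have hfy0 : x₀ ≠ f y := fun e => hy2 (by rw [e, h2 y hyo])
    by_cases hfix : ∃ a ∈ o, f a = a
    · obtain ⟨a, ha, hfa⟩ := hfix
      have hsingle : ∀ c, c ∈ o → f c ≠ c → p c * p (f c) ∈ φ.range.map V.subtype := by
        intro c hc hfc
        have := hmemR c a hc ha (fun e => hfc (e ▸ hfa))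
        rwa [hfa, M.duad_comm c a, M.duad_mul, M.duad_comm] at this
      refine ⟨_, _, hsingle x₀ hx₀ hmv, hsingle y hyo hfy, M.duad_ne_one hmv.symm,
        M.duad_ne_one hfy.symm, fun e => ?_⟩
      rcases M.pair_inj _ _ _ _ hmv.symm hfy.symm e with g | g
      · exact hy1 g.1.symm
      · exact hfy0 g.1
    · push Not at hfix
      have hquad : ∀ c, c ∈ o → x₀ ≠ c →
          p x₀ * p (f x₀) * (p c * p (f c)) ∈ φ.range.map V.subtype := by
        intro c hc hne
        have := hmemR x₀ c hx₀ hc hne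
        have e : p (f x₀) * p (f c) * (p x₀ * p c) = p x₀ * p (f x₀) * (p c * p (f c)) := by
          calc p (f x₀) * p (f c) * (p x₀ * p c)
              = p (f x₀) * (p (f c) * p x₀) * p c := by group
            _ = p (f x₀) * p x₀ * (p (f c) * p c) := by rw [M.duad_comm (f c) x₀]; group
            _ = _ := by rw [M.duad_comm (f x₀) x₀, M.duad_comm (f c) c]
        rwa [e] at this
      obtain ⟨w, hwo, hw1, hw2, hw3, hw4⟩ : ∃ w ∈ o, w ≠ x₀ ∧ w ≠ f x₀ ∧ w ≠ y ∧ w ≠ f y := by
        have hpos : 0 < ((((o.erase x₀).erase (f x₀)).erase y).erase (f y)).card := by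
          have := Finset.pred_card_le_card_erase (s := ((o.erase x₀).erase (f x₀)).erase y) (a := f y)
          have := Finset.pred_card_le_card_erase (s := (o.erase x₀).erase (f x₀)) (a := y)
          have := Finset.pred_card_le_card_erase (s := o.erase x₀) (a := f x₀)
          have := Finset.pred_card_le_card_erase (s := o) (a := x₀)
          have := card_octad ho
          omega
        obtain ⟨w, hw⟩ := Finset.card_pos.1 hpos
        simp only [Finset.mem_erase] at hw
        exact ⟨w, hw.2.2.2.2, hw.2.2.2.1, hw.2.2.1, hw.2.1, hw.1⟩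
      have hfw0 : x₀ ≠ f w := fun e => hw2 (by rw [e, h2 w hwo])
      refine ⟨_, _, hquad y hyo hy1.symm, hquad w hwo hw1.symm,
        M.quad_ne_one hmv.symm hfy.symm hy1.symm hfy0,
        M.quad_ne_one hmv.symm (hfix w hwo).symm hw1.symm hfw0, fun e => ?_⟩
      rcases M.pair_inj _ _ _ _ hfy.symm (hfix w hwo).symm (mul_left_cancel e) with g | g
      · exact hw3 g.1.symm
      · exact hw4 g.2.symm
  have hcard : ({1, u, v} : Finset G).card = 3 := by
    rw [Finset.card_insert_of_notMem (by simp [hu1.symm, hv1.symm]), Finset.card_pair huv]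
  haveI : Fintype ↥(φ.range.map V.subtype) := Fintype.ofFinite _
  rw [Nat.card_congr (Subgroup.equivMapOfInjective φ.range _ V.subtype_injective).toEquiv,
    Nat.card_eq_fintype_card, ← hcard, ← Fintype.card_coe]
  refine Fintype.card_le_of_injective (fun g => (⟨g.1, ?_⟩ : ↥(φ.range.map V.subtype)))
    fun a b h => Subtype.ext (congrArg (fun w : ↥(φ.range.map V.subtype) => (w : G)) h)
  rcases Finset.mem_insert.1 g.2 with e | h
  · rw [e]; exact one_mem _
  · rcases Finset.mem_insert.1 h with e | h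
    · rw [e]; exact hu
    · rw [Finset.mem_singleton.1 h]; exact hv

/-- Two different actions on the octad fix at most 8 elements of its span together. -/
theorem card_span_fixed_two (ho : o ∈ octads) {m n : ↥(Subgroup.normalizer (V : Set G))}
    (hm : q m ∈ octadGroup o) (hn : q n ∈ octadGroup o) (hm2 : ∀ x ∈ o, q m (q m x) = x)
    (hn2 : ∀ x ∈ o, q n (q n x) = x) (hmv : ∃ x ∈ o, q m x ≠ x) (hnv : ∃ x ∈ o, q n x ≠ x)
    (hne : ∃ x ∈ o, q m x ≠ q n x) :
    Nat.card ↥(octSpan p o ⊓ Subgroup.centralizer ({(m : G)} : Set G) ⊓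
      Subgroup.centralizer ({(n : G)} : Set G)) ≤ 8 := by
  classical
  set L := octSpan p o
  set Cm := L ⊓ Subgroup.centralizer ({(m : G)} : Set G)
  set Cn := L ⊓ Subgroup.centralizer ({(n : G)} : Set G)
  obtain ⟨xm, hxm, hxm'⟩ := hmv
  obtain ⟨xn, hxn, hxn'⟩ := hnv
  have h16m := M.card_span_fixed_le ho m hm hm2 hxm hxm'
  have h16n := M.card_span_fixed_le ho n hn hn2 hxn hxn'
  have key : ∀ {m n : ↥(Subgroup.normalizer (V : Set G))}, q m ∈ octadGroup o →
      (∀ x ∈ o, q m (q m x) = x) → (∃ x ∈ o, q m x ≠ x) →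
      L ⊓ Subgroup.centralizer ({(m : G)} : Set G) ≤ Subgroup.centralizer ({(n : G)} : Set G) →
      ∀ a ∈ o, q n a ≠ a → q m a = q n a := by
    intro m n hm hm2 hmv hle a ha hna
    obtain ⟨x, hx, hx'⟩ := hmv
    have hduad : ∀ c ∈ o, c ≠ a →
        ((q m a = a ∧ q m c = c) ∨ (q m a = c ∧ q m c = a)) →
        (q n a = a ∧ q n c = c) ∨ (q n a = c ∧ q n c = a) := fun c hc hca h => by
      refine (M.commute_duad_iff n hca.symm).1 ?_
      have := hle (Subgroup.mem_inf.2 ⟨duad_mem_octSpan p ha hc hca.symm,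
        Subgroup.mem_centralizer_singleton_iff.2 ((M.commute_duad_iff m hca.symm).2 h).symm⟩)
      exact (Subgroup.mem_centralizer_singleton_iff.1 this).symm
    by_cases hma : q m a = a
    · obtain ⟨c, hc, hca, hcn, hmc⟩ : ∃ c ∈ o, c ≠ a ∧ c ≠ q n a ∧ q m c = c := by
        set Fx := o.filter fun y => q m y = y
        have h4 : 4 ≤ Fx.card := by
          have hsum := Finset.card_filter_add_card_filter_not (s := o) (fun y => q m y = y)
          rcases card_moved ho hm hm2 hx hx' with h | h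
          · simp only [ne_eq] at h
            have := card_octad ho
            show 4 ≤ (o.filter fun y => q m y = y).card
            omega
          · have hall : (o.filter fun y => q m y ≠ y) = o :=
              Finset.eq_of_subset_of_card_le (Finset.filter_subset _ _) (by rw [h, card_octad ho])
            rw [← hall] at ha
            exact absurd hma (Finset.mem_filter.1 ha).2
        have hpos : 0 < ((Fx.erase a).erase (q n a)).card := by
          have := Finset.pred_card_le_card_erase (s := Fx.erase a) (a := q n a)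
          have := Finset.pred_card_le_card_erase (s := Fx) (a := a)
          omega
        obtain ⟨c, hc⟩ := Finset.card_pos.1 hpos
        simp only [Fx, Finset.mem_erase, Finset.mem_filter] at hc
        exact ⟨c, hc.2.2.1, hc.2.1, hc.1, hc.2.2.2⟩
      rcases hduad c hc hca (Or.inl ⟨hma, hmc⟩) with g | g
      · exact absurd g.1 hna
      · exact absurd g.1.symm hcn
    · rcases hduad (q m a) ((octad_mem_iff hm a).2 ha) hma (Or.inr ⟨rfl, hm2 a ha⟩) with g | g
      · exact absurd g.1 hna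
      · exact g.1.symm
  by_contra hgt
  push Not at hgt
  have hpow : ∀ X : Subgroup G, X ≤ L → ∃ k, Nat.card ↥X = 2 ^ k := fun X hX => by
    obtain ⟨k, -, hk⟩ := (Nat.dvd_prime_pow Nat.prime_two).1
      (M.card_octSpan ho ▸ Subgroup.card_dvd_of_le hX)
    exact ⟨k, hk⟩
  have hI : L ⊓ Subgroup.centralizer ({(m : G)} : Set G) ⊓ Subgroup.centralizer ({(n : G)} : Set G) ≤ L :=
    inf_le_left.trans inf_le_left
  obtain ⟨k, hk⟩ := hpow _ hI
  have h16 : 16 ≤ Nat.card ↥(L ⊓ Subgroup.centralizer ({(m : G)} : Set G) ⊓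
      Subgroup.centralizer ({(n : G)} : Set G)) := by
    rw [hk] at hgt ⊢
    by_contra hc
    have hk4 : k < 4 := (Nat.pow_lt_pow_iff_right (by norm_num : 1 < 2)).1 (by omega : 2 ^ k < 2 ^ 4)
    interval_cases k <;> omega
  have e1 := Subgroup.eq_of_le_of_card_ge (inf_le_left : L ⊓ Subgroup.centralizer ({(m : G)} : Set G) ⊓
      Subgroup.centralizer ({(n : G)} : Set G) ≤ L ⊓ Subgroup.centralizer ({(m : G)} : Set G)) (h16m.trans h16)
  have hle2 : L ⊓ Subgroup.centralizer ({(m : G)} : Set G) ⊓ Subgroup.centralizer ({(n : G)} : Set G) ≤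
      L ⊓ Subgroup.centralizer ({(n : G)} : Set G) := le_inf (inf_le_left.trans inf_le_left) inf_le_right
  have e2 := Subgroup.eq_of_le_of_card_ge hle2 (h16n.trans h16)
  obtain ⟨a, ha, hne'⟩ := hne
  by_cases hna : q n a = a
  · have hma : q m a ≠ a := fun h => hne' (h.trans hna.symm)
    exact hne' (key hn hn2 ⟨xn, hxn, hxn'⟩ (e2 ▸ inf_le_left.trans inf_le_right) a ha hma).symm
  · exact hne' (key hm hm2 ⟨xm, hxm, hxm'⟩ (e1 ▸ inf_le_right) a ha hna)

/-- A self-centralizing elementary abelian `2 ^ 10` of `N(V)` lies over an octad kernel. -/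
theorem exists_over {A : Subgroup G} (hA : IsTen A) (hle : A ≤ Subgroup.normalizer (V : Set G)) :
    ∃ o, Over p q o A := by
  classical
  set φ : ↥A →* Equiv.Perm GolayPt := q.comp (Subgroup.inclusion hle) with hφ
  have hAsq : ∀ a ∈ A, a * a = 1 := fun a ha => by rw [← pow_two]; exact hA.elem.2 a ha
  have hAcomm : ∀ a ∈ A, ∀ b ∈ A, a * b = b * a := fun a ha b hb =>
    congrArg Subtype.val (hA.elem.1.is_comm.comm (⟨a, ha⟩ : ↥A) ⟨b, hb⟩)
  set T := φ.range with hT
  have hTsq : ∀ t ∈ T, t * t = 1 := by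
    rintro _ ⟨a, rfl⟩
    rw [← map_mul, show a * a = 1 from Subtype.ext (hAsq a.1 a.2), map_one]
  have hTcomm : ∀ s ∈ T, ∀ t ∈ T, s * t = t * s := by
    rintro _ ⟨a, rfl⟩ _ ⟨b, rfl⟩
    rw [← map_mul, ← map_mul, show a * b = b * a from Subtype.ext (hAcomm a.1 a.2 b.1 b.2)]
  have hTM : ∀ t ∈ T, t ∈ Cfsg.M24 := by
    rintro _ ⟨a, rfl⟩; exact M.q_mem _
  have hT2 : ∀ t ∈ T, ∀ x, t (t x) = x := fun t ht x => by
    rw [← Equiv.Perm.mul_apply, hTsq t ht]; rfl
  have hcard : Nat.card ↥T * Nat.card ↥(A ⊓ V) = 2 ^ 10 := by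
    rw [← hA.card]
    have h := Subgroup.card_eq_card_quotient_mul_card_subgroup φ.ker
    rw [Nat.card_congr (QuotientGroup.quotientKerEquivRange φ).toEquiv] at h
    rw [h]
    congr 1
    refine (Nat.card_congr
      { toFun := fun a => ⟨a.1.1, Subgroup.mem_inf.2 ⟨a.1.2, (M.q_eq_one_iff _).1 a.2⟩⟩
        invFun := fun a => ⟨⟨a.1, (Subgroup.mem_inf.1 a.2).1⟩, (M.q_eq_one_iff _).2 (Subgroup.mem_inf.1 a.2).2⟩
        left_inv := fun _ => rfl
        right_inv := fun _ => rfl }).symm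
  have hpre : ∀ t ∈ T, ∃ n : ↥(Subgroup.normalizer (V : Set G)), (n : G) ∈ A ∧ q n = t := by
    rintro _ ⟨a, rfl⟩; exact ⟨Subgroup.inclusion hle a, a.2, rfl⟩
  have hfix : ∀ n : ↥(Subgroup.normalizer (V : Set G)), (n : G) ∈ A →
      A ⊓ V ≤ V ⊓ Subgroup.centralizer ({(n : G)} : Set G) := fun n hn v hv =>
    Subgroup.mem_inf.2 ⟨(Subgroup.mem_inf.1 hv).2,
      Subgroup.mem_centralizer_singleton_iff.2 (hAcomm v (Subgroup.mem_inf.1 hv).1 _ hn)⟩
  have hT1 : T ≠ ⊥ := by
    intro h
    have hAV : A ≤ V := fun a ha => by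
      have : φ ⟨a, ha⟩ ∈ T := ⟨_, rfl⟩
      rw [h, Subgroup.mem_bot] at this
      exact (M.q_eq_one_iff ⟨a, hle ha⟩).1 this
    have hVA : V ≤ A := by
      rw [← hA.self]
      exact fun v hv => Subgroup.mem_centralizer_iff.2 fun a ha => M.comm (hAV ha) hv
    have := Subgroup.card_le_of_le hVA
    rw [hA.card, M.card_V] at this
    omega
  by_cases hfree : ∀ t ∈ T, t ≠ 1 → ∀ x, t x ≠ x
  · exfalso
    -- semiregular image
    letI : Fintype ↥T := Fintype.ofFinite _
    have hB := MulAction.sum_card_fixedBy_eq_card_orbits_mul_card_group ↥T GolayPt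
    rw [Finset.sum_eq_single (1 : ↥T)] at hB
    rotate_left
    · intro t _ ht
      rw [Fintype.card_eq_zero_iff]
      exact ⟨fun x => hfree t.1 t.2 (fun e => ht (Subtype.ext e)) x.1 x.2⟩
    · intro h; exact absurd (Finset.mem_univ _) h
    have h24 : Fintype.card ↑(MulAction.fixedBy GolayPt (1 : ↥T)) = 24 := by
      rw [Fintype.card_of_finset' (Finset.univ : Finset GolayPt) (fun x => by simp)]
      rfl
    rw [h24] at hB
    have hdvd : Fintype.card ↥T ∣ 24 := Dvd.intro_left _ hB.symm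
    rw [← Nat.card_eq_fintype_card] at hdvd
    obtain ⟨⟨t, ht⟩, ht1'⟩ := Subgroup.ne_bot_iff_exists_ne_one.1 hT1
    have ht1 : t ≠ 1 := fun e => ht1' (Subtype.ext e)
    obtain ⟨n, hnA, hnt⟩ := hpre t ht
    have h7 := (Subgroup.card_le_of_le (hfix n hnA)).trans
      (M.card_fixed_le n (by rw [hnt]; exact hTsq t ht) (by rw [hnt]; exact ht1))
    obtain ⟨k, hk10, hk⟩ := (Nat.dvd_prime_pow Nat.prime_two).1 (Dvd.intro _ hcard : Nat.card ↥T ∣ 2 ^ 10)
    have hk3 : k = 3 := by
      rw [hk] at hdvd hcard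
      have hk4 : k ≤ 3 := by
        by_contra hc
        have : 2 ^ 4 ∣ 24 := (pow_dvd_pow 2 (not_le.1 hc)).trans hdvd
        norm_num at this
      interval_cases k <;> omega
    rw [hk, hk3] at hcard
    have hAV7 : Nat.card ↥(A ⊓ V) = 128 := by omega
    have heq : A ⊓ V = V ⊓ Subgroup.centralizer ({(n : G)} : Set G) :=
      Subgroup.eq_of_le_of_card_ge (hfix n hnA) (by
        have := M.card_fixed_le n (by rw [hnt]; exact hTsq t ht) (by rw [hnt]; exact ht1)
        omega)
    -- a second element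
    obtain ⟨s, hs, hs1, hst⟩ : ∃ s ∈ T, s ≠ 1 ∧ s ≠ t := by
      by_contra h
      push Not at h
      have hsub : (T : Set (Equiv.Perm GolayPt)) ⊆ {1, t} := fun s hs => by
        by_cases h1 : s = 1
        · exact Or.inl h1
        · exact Or.inr (h s hs h1)
      have := Set.ncard_le_ncard hsub (Set.toFinite _)
      rw [← Nat.card_coe_set_eq, Set.ncard_pair ht1.symm] at this
      have : Nat.card ↥T ≤ 2 := this
      rw [hk, hk3] at this
      norm_num at this
    obtain ⟨m, hmA, hms⟩ := hpre s hs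
    obtain ⟨x⟩ : Nonempty GolayPt := ⟨none⟩
    have hxt : q n x ≠ x := by rw [hnt]; exact hfree t ht ht1 x
    have hP := M.duad_moved_fixed n (by rw [hnt]; exact hTsq t ht) hxt
    rw [← heq] at hP
    have hc : (m : G) * (p x * p (q n x)) = p x * p (q n x) * (m : G) :=
      hAcomm _ hmA _ (Subgroup.mem_inf.1 hP).1
    rcases (M.commute_duad_iff m hxt.symm).1 hc with g | g
    · rw [hms] at g; exact hfree s hs hs1 x g.1
    · rw [hms, hnt] at g
      by_cases h : s * t = 1
      · exact hst (by rw [mul_eq_one_iff_eq_inv.1 h, inv_eq_of_mul_eq_one_right (hTsq t ht)])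
      · exact hfree _ (mul_mem hs ht) h x (by rw [Equiv.Perm.mul_apply]; exact g.2)
  -- an element with fixed points
  push Not at hfree
  obtain ⟨t₀, ht₀, ht₀1, x₀, hx₀⟩ := hfree
  obtain ⟨o, ho, -, htK⟩ := exists_kernel_of_fix (hTM t₀ ht₀) (hTsq t₀ ht₀) ht₀1 hx₀
  refine ⟨o, ?_⟩
  have hTO : ∀ t ∈ T, t ∈ octadGroup o := fun t ht =>
    mem_octadGroup_of_commute ho htK ht₀1 (hTM t ht) (hTcomm t ht t₀ ht₀)
  set T₀ := T ⊓ octadKernel o with hT₀
  let ρ : ↥T →* Equiv.Perm ↥o := (octadRestrict o).comp (Subgroup.inclusion hTO)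
  have hρker : Nat.card ↥ρ.ker = Nat.card ↥T₀ :=
    Nat.card_congr
      { toFun := fun t => ⟨t.1.1, Subgroup.mem_inf.2 ⟨t.1.2, mem_octadKernel.2 ⟨hTM _ t.1.2,
          fun x hx => congrArg Subtype.val (DFunLike.congr_fun t.2 (⟨x, hx⟩ : ↥o))⟩⟩⟩
        invFun := fun t => ⟨⟨t.1, (Subgroup.mem_inf.1 t.2).1⟩, Equiv.ext fun x => Subtype.ext
          ((mem_octadKernel.1 (Subgroup.mem_inf.1 t.2).2).2 x x.2)⟩
        left_inv := fun _ => rfl
        right_inv := fun _ => rfl }
  have hTmul : Nat.card ↥ρ.range * Nat.card ↥T₀ = Nat.card ↥T := by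
    rw [← hρker, Subgroup.card_eq_card_quotient_mul_card_subgroup ρ.ker,
      Nat.card_congr (QuotientGroup.quotientKerEquivRange ρ).toEquiv]
  have hbar : Nat.card ↥ρ.range ≤ 16 := by
    have h := sq_card_le 8 (Finset.univ : Finset ↥o) ρ.range
      (by rw [Finset.card_univ, Fintype.card_coe, card_octad ho])
      (by
        rintro _ ⟨t, rfl⟩
        rw [← map_mul, show t * t = 1 from Subtype.ext (hTsq t.1 t.2), map_one])
      (by
        rintro _ ⟨s, rfl⟩ _ ⟨t, rfl⟩
        rw [← map_mul, ← map_mul, show s * t = t * s from Subtype.ext (hTcomm s.1 s.2 t.1 t.2)])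
      (fun h _ x hx => absurd (Finset.mem_univ x) hx)
    rw [Finset.card_univ, Fintype.card_coe, card_octad ho] at h
    nlinarith
  have hT₀le : T₀ ≤ octadKernel o := inf_le_right
  have hT₀2 : 2 ≤ Nat.card ↥T₀ := by
    have : Nontrivial ↥T₀ := ⟨⟨1, ⟨t₀, Subgroup.mem_inf.2 ⟨ht₀, htK⟩⟩, fun e => ht₀1 (congrArg Subtype.val e).symm⟩⟩
    exact Finite.one_lt_card
  obtain ⟨j, hj4, hj⟩ := (Nat.dvd_prime_pow Nat.prime_two).1
    (show Nat.card ↥T₀ ∣ 2 ^ 4 by rw [show (2 : ℕ) ^ 4 = 16 from rfl, ← card_kernel ho]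
                                  exact Subgroup.card_dvd_of_le hT₀le)
  obtain ⟨n₀, hn₀A, hn₀t⟩ := hpre t₀ ht₀
  obtain ⟨r, hr10, hr⟩ := (Nat.dvd_prime_pow Nat.prime_two).1
    (Dvd.intro _ (hcard) : Nat.card ↥T ∣ 2 ^ 10)
  obtain ⟨c, hc10, hc⟩ := (Nat.dvd_prime_pow Nat.prime_two).1
    (Dvd.intro_left _ hcard : Nat.card ↥(A ⊓ V) ∣ 2 ^ 10)
  have hrc : r + c = 10 := Nat.pow_right_injective le_rfl (by
    show 2 ^ (r + c) = 2 ^ 10
    rw [pow_add, ← hr, ← hc, hcard])
  obtain ⟨i, hi4, hi⟩ : ∃ i, i ≤ 4 ∧ Nat.card ↥ρ.range = 2 ^ i := by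
    obtain ⟨i, -, hi⟩ := (Nat.dvd_prime_pow Nat.prime_two).1 (hr ▸ hTmul ▸ Dvd.intro _ rfl :
      Nat.card ↥ρ.range ∣ 2 ^ r)
    exact ⟨i, (Nat.pow_le_pow_iff_right (by norm_num : 1 < 2)).1 (by rw [← hi]; exact hbar), hi⟩
  have hij : i + j = r := Nat.pow_right_injective le_rfl (by
    show 2 ^ (i + j) = 2 ^ r
    rw [pow_add, ← hi, ← hj, ← hr, hTmul])
  have hc7 : c ≤ 7 := (Nat.pow_le_pow_iff_right (by norm_num : 1 < 2)).1 (by
    rw [← hc]
    exact (Subgroup.card_le_of_le (hfix n₀ hn₀A)).trans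
      (M.card_fixed_le n₀ (by rw [hn₀t]; exact hTsq t₀ ht₀) (by rw [hn₀t]; exact ht₀1)))
  -- when the kernel part has two involutions
  have hinL : 2 ≤ j → A ⊓ V ≤ octSpan p o := by
    intro hj2 v hv
    obtain ⟨t₁, ht₁, ht₁1, ht₁0⟩ : ∃ t₁ ∈ T₀, t₁ ≠ 1 ∧ t₁ ≠ t₀ := by
      by_contra h
      push Not at h
      have hsub : (T₀ : Set (Equiv.Perm GolayPt)) ⊆ {1, t₀} := fun s hs => by
        by_cases h1 : s = 1
        · exact Or.inl h1
        · exact Or.inr (h s hs h1)
      have := Set.ncard_le_ncard hsub (Set.toFinite _)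
      rw [← Nat.card_coe_set_eq, Set.ncard_pair ht₀1.symm] at this
      have : Nat.card ↥T₀ ≤ 2 := this
      have h4 : 2 ^ 2 ≤ 2 ^ j := Nat.pow_le_pow_right (by norm_num) hj2
      omega
    obtain ⟨n₁, hn₁A, hn₁t⟩ := hpre t₁ (Subgroup.mem_inf.1 ht₁).1
    exact M.octSpan_of_two ho (m := n₀) (n := n₁) (by rw [hn₀t]; exact htK)
      (by rw [hn₁t]; exact (Subgroup.mem_inf.1 ht₁).2) (by rw [hn₀t]; exact ht₀1) (by rw [hn₁t]; exact ht₁1)
      (by rw [hn₀t, hn₁t]; exact fun e => ht₁0 e.symm) (Subgroup.mem_inf.1 hv).2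
      (hAcomm v (Subgroup.mem_inf.1 hv).1 _ hn₀A) (hAcomm v (Subgroup.mem_inf.1 hv).1 _ hn₁A)
  -- bounds from the action on the octad
  have hbound : ∀ X : Subgroup G, X ≤ A ⊓ V → X ≤ octSpan p o →
      (1 ≤ i → Nat.card ↥X ≤ 16) ∧ (2 ≤ i → Nat.card ↥X ≤ 8) := by
    intro X hXA hXL
    have hXc : ∀ n : ↥(Subgroup.normalizer (V : Set G)), (n : G) ∈ A →
        X ≤ Subgroup.centralizer ({(n : G)} : Set G) := fun n hn => hXA.trans ((hfix n hn).trans inf_le_right)
    have hbarel : ∀ b : ↥ρ.range, b ≠ 1 → ∃ n : ↥(Subgroup.normalizer (V : Set G)), (n : G) ∈ A ∧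
        q n ∈ octadGroup o ∧ (∀ x ∈ o, q n (q n x) = x) ∧ (∃ x ∈ o, q n x ≠ x) ∧
        ∀ x : ↥o, ((b : Equiv.Perm ↥o) x : GolayPt) = q n x := by
      rintro ⟨_, t, rfl⟩ hb
      obtain ⟨n, hnA, hnt⟩ := hpre t.1 t.2
      refine ⟨n, hnA, by rw [hnt]; exact hTO _ t.2, fun x _ => by rw [hnt]; exact hT2 _ t.2 x, ?_,
        fun x => by rw [hnt]; rfl⟩
      by_contra h
      push Not at h
      exact hb (Subtype.ext (Equiv.ext fun x => Subtype.ext (by
        show (t : Equiv.Perm GolayPt) x = (x : GolayPt)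
        rw [← hnt]; exact h x x.2)))
    constructor
    · intro hi1
      obtain ⟨b, hb⟩ : ∃ b : ↥ρ.range, b ≠ 1 := by
        have : 1 < Nat.card ↥ρ.range := by rw [hi]; exact Nat.one_lt_two_pow (by omega)
        haveI := Finite.one_lt_card_iff_nontrivial.1 this
        exact exists_ne 1
      obtain ⟨n, hnA, hnO, hn2, ⟨x, hx, hx'⟩, -⟩ := hbarel b hb
      exact (Subgroup.card_le_of_le (le_inf hXL (hXc n hnA))).trans (M.card_span_fixed_le ho n hnO hn2 hx hx')
    · intro hi2
      obtain ⟨b, b', hb, hb', hne⟩ : ∃ b b' : ↥ρ.range, b ≠ 1 ∧ b' ≠ 1 ∧ b ≠ b' := by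
        letI : Fintype ↥ρ.range := Fintype.ofFinite _
        have h4 : 2 ^ 2 ≤ 2 ^ i := Nat.pow_le_pow_right (by norm_num) hi2
        have h3 : 1 < ((Finset.univ : Finset ↥ρ.range).erase 1).card := by
          rw [Finset.card_erase_of_mem (Finset.mem_univ _), Finset.card_univ, ← Nat.card_eq_fintype_card, hi]
          omega
        obtain ⟨b, hb, b', hb', hne⟩ := Finset.one_lt_card.1 h3
        exact ⟨b, b', (Finset.mem_erase.1 hb).1, (Finset.mem_erase.1 hb').1, hne⟩
      obtain ⟨m, hmA, hmO, hm2, hmv, hmb⟩ := hbarel b hb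
      obtain ⟨n, hnA, hnO, hn2, hnv, hnb⟩ := hbarel b' hb'
      refine (Subgroup.card_le_of_le (le_inf (le_inf hXL (hXc m hmA)) (hXc n hnA))).trans
        (M.card_span_fixed_two ho hmO hnO hm2 hn2 hmv hnv ?_)
      by_contra h
      push Not at h
      exact hne (Subtype.ext (Equiv.ext fun x => Subtype.ext (by rw [hmb, hnb]; exact h x x.2)))
  -- the whole kernel
  by_cases hj4' : j = 4
  · have hfull : T₀ = octadKernel o :=
      Subgroup.eq_of_le_of_card_ge hT₀le (by rw [card_kernel ho, hj, hj4']; rfl)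
    have hTeq : T = octadKernel o := by
      refine le_antisymm (fun t ht => ?_) (hfull ▸ inf_le_left)
      obtain ⟨x, hx⟩ := exists_not_mem ho
      have htx : t x ∉ o := fun h => hx ((octad_mem_iff (hTO t ht) x).1 h)
      obtain ⟨k, hk, hkx⟩ := exists_kernel_map ho hx htx
      have hkT : k ∈ T := (Subgroup.mem_inf.1 (hfull.symm ▸ hk : k ∈ T₀)).1
      have hagree : ∀ y, y ∉ o → t y = k y := by
        intro y hy
        obtain ⟨g, hg, rfl⟩ := exists_kernel_map ho hx hy
        have hgT : g ∈ T := (Subgroup.mem_inf.1 (hfull.symm ▸ hg : g ∈ T₀)).1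
        rw [← Equiv.Perm.mul_apply, hTcomm t ht g hgT, Equiv.Perm.mul_apply, ← hkx, ← Equiv.Perm.mul_apply,
          ← hTcomm k hkT g hgT, Equiv.Perm.mul_apply]
      have hone := eq_one_of_fix_compl ho (hTM _ (mul_mem hkT ht)) (hTsq _ (mul_mem hkT ht)) fun y hy => by
        rw [Equiv.Perm.mul_apply, hagree y hy]; exact hT2 k hkT y
      have hkt : t = k := by
        rw [mul_eq_one_iff_eq_inv] at hone
        rw [hone, inv_eq_of_mul_eq_one_right (hTsq t ht)]
      exact hkt ▸ hk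
    have hr4 : r = 4 := Nat.pow_right_injective le_rfl (by
      show 2 ^ r = 2 ^ 4
      rw [← hr, hTeq, card_kernel ho])
    refine ⟨ho, hle, ?_, fun a ha => ?_, fun f hf => ?_⟩
    · refine Subgroup.eq_of_le_of_card_ge (hinL (by omega)) ?_
      rw [hc, M.card_octSpan ho, show c = 6 by omega]
    · rw [← hTeq]; exact ⟨⟨a, ha⟩, rfl⟩
    · exact hpre f (hTeq ▸ hf)
  exfalso
  have hj1 : 1 ≤ j := by
    by_contra h; interval_cases j; omega
  by_cases hj1' : j = 1
  · -- one involution in the kernel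
    obtain ⟨x, hx⟩ := exists_not_mem ho
    have hX : Nat.card ↥(A ⊓ V) ≤ 2 * Nat.card ↥(A ⊓ V ⊓ octSpan p o) := by
      by_cases hsub : A ⊓ V ≤ octSpan p o
      · rw [inf_eq_left.2 hsub]; omega
      obtain ⟨v₀, hv₀, hv₀L⟩ := SetLike.not_le_iff_exists.1 hsub
      have hdiv : ∀ v ∈ A ⊓ V, v ∈ octSpan p o ∨ v * v₀ ∈ octSpan p o := by
        intro v hv
        have hf := fun w (hw : w ∈ A ⊓ V) => (M.fixed_of_kernel ho n₀ (by rw [hn₀t]; exact htK)
          (by rw [hn₀t]; exact ht₀1)).2 x hx w (Subgroup.mem_inf.1 hw).2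
            (hAcomm w (Subgroup.mem_inf.1 hw).1 _ hn₀A)
        rcases hf v hv with h | h
        · exact Or.inl h
        · have h0 := (hf v₀ hv₀).resolve_left hv₀L
          refine Or.inr ?_
          have := mul_mem h h0
          have hPV := M.duad_mem x (q n₀ x)
          have hv0V := (Subgroup.mem_inf.1 hv₀).2
          rwa [mul_assoc v, M.comm hv0V hPV, M.cancel hPV] at this
      letI : Fintype ↥(A ⊓ V) := Fintype.ofFinite _
      letI : Fintype ↥(A ⊓ V ⊓ octSpan p o) := Fintype.ofFinite _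
      rw [Nat.card_eq_fintype_card, Nat.card_eq_fintype_card]
      calc Fintype.card ↥(A ⊓ V) ≤ Fintype.card (Bool × ↥(A ⊓ V ⊓ octSpan p o)) := by
            refine Fintype.card_le_of_injective (fun v => if h : (v : G) ∈ octSpan p o then
              (true, ⟨v, Subgroup.mem_inf.2 ⟨v.2, h⟩⟩)
              else (false, ⟨(v : G) * v₀, Subgroup.mem_inf.2 ⟨mul_mem v.2 hv₀, (hdiv v v.2).resolve_left h⟩⟩))
              fun a b h => ?_
            simp only at h
            split_ifs at h <;> simp only [Prod.mk.injEq, Subtype.mk.injEq] at h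
            · exact Subtype.ext h.2
            · simp at h
            · simp at h
            · exact Subtype.ext (mul_right_cancel h.2)
        _ = _ := by rw [Fintype.card_prod, Fintype.card_bool]
    have hi2 : 2 ≤ i := by omega
    have := (hbound _ inf_le_left inf_le_right).2 hi2
    have : 2 ^ c ≤ 2 ^ 4 := by rw [← hc]; omega
    have := (Nat.pow_le_pow_iff_right (by norm_num : 1 < 2)).1 this
    omega
  have hj2 : 2 ≤ j := by omega
  have hc6 : c ≤ 6 := (Nat.pow_le_pow_iff_right (by norm_num : 1 < 2)).1 (by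
    rw [← hc, ← M.card_octSpan ho]
    exact Subgroup.card_le_of_le (hinL hj2))
  have hi1 : 1 ≤ i := by omega
  have hc4 : c ≤ 4 := (Nat.pow_le_pow_iff_right (by norm_num : 1 < 2)).1 (by
    rw [← hc]; exact (hbound _ le_rfl (hinL hj2)).1 hi1)
  have hi2 : 2 ≤ i := by omega
  have hc3 : c ≤ 3 := (Nat.pow_le_pow_iff_right (by norm_num : 1 < 2)).1 (by
    rw [← hc]; exact (hbound _ le_rfl (hinL hj2)).2 hi2)
  have hj3 : j = 3 := by omega
  -- orbits of length at least eight outside the octad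
  letI : Fintype ↥T := Fintype.ofFinite _
  have horb : ∀ x, x ∉ o → 8 ≤ (Finset.univ.image fun t : ↥T => (t : Equiv.Perm GolayPt) x).card ∧
      (Finset.univ.image fun t : ↥T => (t : Equiv.Perm GolayPt) x) ⊆ Finset.univ \ o := by
    intro x hx
    refine ⟨?_, fun y hy => ?_⟩
    · letI : Fintype ↥T₀ := Fintype.ofFinite _
      have h8 : (Finset.univ.image fun t : ↥T₀ => (t : Equiv.Perm GolayPt) x).card = 8 := by
        rw [Finset.card_image_of_injective, Finset.card_univ, ← Nat.card_eq_fintype_card, hj, hj3]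
        · rfl
        · intro a b h
          exact Subtype.ext (kernel_eq_of_eq ho (Subgroup.mem_inf.1 a.2).2 (Subgroup.mem_inf.1 b.2).2 hx h)
      rw [← h8]
      refine Finset.card_le_card fun y hy => ?_
      obtain ⟨t, -, rfl⟩ := Finset.mem_image.1 hy
      exact Finset.mem_image.2 ⟨⟨t.1, (Subgroup.mem_inf.1 t.2).1⟩, Finset.mem_univ _, rfl⟩
    · obtain ⟨t, -, rfl⟩ := Finset.mem_image.1 hy
      exact Finset.mem_sdiff.2 ⟨Finset.mem_univ _, fun h => hx ((octad_mem_iff (hTO _ t.2) x).1 h)⟩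
  obtain ⟨x, hx⟩ := exists_not_mem ho
  obtain ⟨hx8, hxs⟩ := horb x hx
  set Ox := Finset.univ.image fun t : ↥T => (t : Equiv.Perm GolayPt) x
  have h16 : (Finset.univ \ o).card = 16 := by
    rw [Finset.card_univ_sdiff, card_octad ho]; rfl
  have hinj : ∀ s t : ↥T, (∀ w, w ∉ o → (s : Equiv.Perm GolayPt) w = (t : Equiv.Perm GolayPt) w) → s = t := by
    intro s t h
    have h1 : (s : Equiv.Perm GolayPt) * t = 1 := eq_one_of_fix_compl ho (hTM _ (mul_mem s.2 t.2))
      (hTsq _ (mul_mem s.2 t.2)) fun w hw => by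
        have hw' : (t : Equiv.Perm GolayPt) w ∉ o := fun e => hw ((octad_mem_iff (hTO _ t.2) w).1 e)
        rw [Equiv.Perm.mul_apply, h _ hw']; exact hT2 _ t.2 w
    exact Subtype.ext (by rw [mul_eq_one_iff_eq_inv.1 h1, inv_eq_of_mul_eq_one_right (hTsq _ t.2)])
  have hprop : ∀ s t : ↥T, ∀ w, (s : Equiv.Perm GolayPt) w = (t : Equiv.Perm GolayPt) w →
      ∀ u ∈ Finset.univ.image (fun r : ↥T => (r : Equiv.Perm GolayPt) w),
        (s : Equiv.Perm GolayPt) u = (t : Equiv.Perm GolayPt) u := by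
    intro s t w h u hu
    obtain ⟨r, -, rfl⟩ := Finset.mem_image.1 hu
    rw [← Equiv.Perm.mul_apply, hTcomm _ s.2 _ r.2, Equiv.Perm.mul_apply, h, ← Equiv.Perm.mul_apply,
      ← hTcomm _ t.2 _ r.2, Equiv.Perm.mul_apply]
  by_cases hall : Ox = Finset.univ \ o
  · have : Fintype.card ↥T ≤ 16 := by
      rw [← h16, ← hall, ← Fintype.card_coe]
      refine Fintype.card_le_of_injective
        (fun t => (⟨(t : Equiv.Perm GolayPt) x, Finset.mem_image.2 ⟨t, Finset.mem_univ _, rfl⟩⟩ : ↥Ox))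
        fun s t h => hinj s t fun w hw => hprop s t x (congrArg Subtype.val h) w ?_
      show w ∈ Ox
      rw [hall]; simp [hw]
    rw [← Nat.card_eq_fintype_card, hr] at this
    have := (Nat.pow_le_pow_iff_right (by norm_num : 1 < 2)).1 (this.trans (by norm_num : 16 ≤ 2 ^ 4))
    omega
  · obtain ⟨y, hy, hyO⟩ := Finset.exists_of_ssubset (Finset.ssubset_iff_subset_ne.2 ⟨hxs, hall⟩)
    obtain ⟨hy8, hys⟩ := horb y (Finset.mem_sdiff.1 hy).2
    set Oy := Finset.univ.image fun t : ↥T => (t : Equiv.Perm GolayPt) y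
    have hdis : Disjoint Ox Oy := by
      rw [Finset.disjoint_left]
      intro w hw hw'
      obtain ⟨s, -, rfl⟩ := Finset.mem_image.1 hw
      obtain ⟨t, -, e⟩ := Finset.mem_image.1 hw'
      refine hyO (Finset.mem_image.2 ⟨t * s, Finset.mem_univ _, ?_⟩)
      show ((t : Equiv.Perm GolayPt) * s) x = y
      rw [Equiv.Perm.mul_apply, ← e]
      exact hT2 _ t.2 y
    have hle16 := Finset.card_le_card (Finset.union_subset hxs hys)
    rw [Finset.card_union_of_disjoint hdis, h16] at hle16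
    have hcov : Ox ∪ Oy = Finset.univ \ o := Finset.eq_of_subset_of_card_le (Finset.union_subset hxs hys)
      (by rw [Finset.card_union_of_disjoint hdis, h16]; omega)
    have : Fintype.card ↥T ≤ 64 := by
      have hprod : Fintype.card ↥T ≤ Fintype.card (↥Ox × ↥Oy) := by
        refine Fintype.card_le_of_injective (fun t =>
          ((⟨(t : Equiv.Perm GolayPt) x, Finset.mem_image.2 ⟨t, Finset.mem_univ _, rfl⟩⟩ : ↥Ox),
           (⟨(t : Equiv.Perm GolayPt) y, Finset.mem_image.2 ⟨t, Finset.mem_univ _, rfl⟩⟩ : ↥Oy)))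
          fun s t h => hinj s t fun w hw => ?_
        simp only [Prod.mk.injEq, Subtype.mk.injEq] at h
        have hw' : w ∈ Ox ∪ Oy := by rw [hcov]; simp [hw]
        rcases Finset.mem_union.1 hw' with hw' | hw'
        · exact hprop s t x h.1 w hw'
        · exact hprop s t y h.2 w hw'
      rw [Fintype.card_prod, Fintype.card_coe, Fintype.card_coe] at hprod
      exact hprod.trans (by nlinarith)
    rw [← Nat.card_eq_fintype_card, hr] at this
    have := (Nat.pow_le_pow_iff_right (by norm_num : 1 < 2)).1 (this.trans (by norm_num : 64 ≤ 2 ^ 6))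
    omega

end Model

end CfsgLib.JFour.TwoTen
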