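import Cfsg.Agent.Lib.JFour.TwoTen.Model
import Cfsg.Agent.Lib.JFour.PointsInst
import Cfsg.Agent.Lib.JFour.PointIso
import Cfsg.Agent.Lib.JFour.DuadCent

/-!
# Groups of Janko-four type: the model of `N(V)` on 24 points exists and contains a Sylow 2-subgroup
-/

set_option autoImplicit false
set_option linter.unusedSectionVars false
set_option linter.style.haveILetI false

open Cfsg
open scoped Pointwise

namespace CfsgLib.JFour

variable {G : Type*} [Group G] [Finite G] {z : G} {P N : Subgroup G}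

namespace Frame

variable {π : ↥(Subgroup.centralizer ({z} : Set G)) →* MulAut ↥Spor.M22}
  {M B : Subgroup (MulAut ↥Spor.M22)} (F : Frame (P := P) (N := N) π M B) {R W : Subgroup G}
include F

/-- The normalizer of `V` contains a conjugate of every 2-subgroup of `G`. -/
theorem exists_conj_le_normalizer_V (L : Lifted P π M B R W) {X : Subgroup G} (hX : IsPGroup 2 X) :
    ∃ g : G, X.map (MulAut.conj g).toMonoidHom ≤
      Subgroup.normalizer ((HexFrame.U (twoCoreOfCentralizer z) W ⊔ W : Subgroup G) : Set G) := by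
  haveI : Fact (Nat.Prime 2) := ⟨Nat.prime_two⟩
  obtain ⟨T0, hT0, -⟩ := F.exists_sylow_over_M
  obtain ⟨Q, hQ⟩ := hX.exists_le_sylow
  obtain ⟨g, hg⟩ := MulAction.exists_smul_eq G Q T0
  refine ⟨g, le_trans ?_ (hT0.trans (F.preH_le_normalizer L))⟩
  rw [← hg, Sylow.coe_subgroup_smul]
  rintro _ ⟨x, hx, rfl⟩
  exact Subgroup.smul_mem_pointwise_smul x (MulAut.conj g) _ (hQ hx)

/-- Inside the centralizer of `z` as well. -/
theorem exists_conj_le_normalizer_V_inH (L : Lifted P π M B R W) {X : Subgroup G} (hX : IsPGroup 2 X)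
    (hXH : X ≤ Subgroup.centralizer ({z} : Set G)) :
    ∃ h ∈ Subgroup.centralizer ({z} : Set G), X.map (MulAut.conj h).toMonoidHom ≤
      Subgroup.normalizer ((HexFrame.U (twoCoreOfCentralizer z) W ⊔ W : Subgroup G) : Set G) := by
  haveI : Fact (Nat.Prime 2) := ⟨Nat.prime_two⟩
  obtain ⟨T0, hT0, hT0c⟩ := F.exists_sylow_over_M
  have hT0H : (T0 : Subgroup G) ≤ Subgroup.centralizer ({z} : Set G) :=
    hT0.trans (Subgroup.map_subtype_le _)
  let T1 : Sylow 2 ↥(Subgroup.centralizer ({z} : Set G)) :=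
    (T0 : Sylow 2 G).subtype hT0H
  have hXp : IsPGroup 2 ↥(X.subgroupOf (Subgroup.centralizer ({z} : Set G))) := hX.comap_subtype
  obtain ⟨Q, hQ⟩ := hXp.exists_le_sylow
  obtain ⟨g, hg⟩ := MulAction.exists_smul_eq ↥(Subgroup.centralizer ({z} : Set G)) Q T1
  refine ⟨g, g.2, le_trans ?_ (hT0.trans (F.preH_le_normalizer L))⟩
  rintro _ ⟨x, hx, rfl⟩
  have h1 : MulAut.conj g ⟨x, hXH hx⟩ ∈
      MulAut.conj g • (Q : Subgroup ↥(Subgroup.centralizer ({z} : Set G))) :=
    Subgroup.smul_mem_pointwise_smul (⟨x, hXH hx⟩ : ↥(Subgroup.centralizer ({z} : Set G)))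
      (MulAut.conj g) _ (hQ (Subgroup.mem_subgroupOf.2 hx))
  rw [← Sylow.coe_subgroup_smul] at h1
  change MulAut.conj g ⟨x, hXH hx⟩ ∈
    ((g • Q : Sylow 2 ↥(Subgroup.centralizer ({z} : Set G))) :
      Subgroup ↥(Subgroup.centralizer ({z} : Set G))) at h1
  rw [hg] at h1
  exact Subgroup.mem_subgroupOf.1 h1

end Frame

/-- The model of `N(V)` in a simple group of Janko-four type. -/
theorem exists_twoTenModel [IsSimpleGroup G] (hG : ¬ IsMulCommutative G)
    (hJ : Cfsg.IsOfJankoFourTypeAt z) :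
    ∃ (V : Subgroup G) (p : GolayPt → G) (q : ↥(Subgroup.normalizer (V : Set G)) →* Equiv.Perm GolayPt),
      TwoTen.Model z V p q ∧ z ∈ V ∧
      (∀ X : Subgroup G, IsPGroup 2 X →
        ∃ g : G, X.map (MulAut.conj g).toMonoidHom ≤ Subgroup.normalizer (V : Set G)) ∧
      ∀ X : Subgroup G, IsPGroup 2 X → X ≤ Subgroup.centralizer ({z} : Set G) →
        ∃ h ∈ Subgroup.centralizer ({z} : Set G),
          X.map (MulAut.conj h).toMonoidHom ≤ Subgroup.normalizer (V : Set G) := by
  obtain ⟨P, h⟩ := hJ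
  obtain ⟨N, π, M, B, R, W, F, L, hfus⟩ := exists_fused hG h
  obtain ⟨five, A, lam, D, hT, hlam⟩ := F.exists_duadFrame_points L hfus
  obtain ⟨e, q, hr, hk, hact, -⟩ := hlam.exists_quotient
  refine ⟨_, fun x => lam (e x), q,
    ⟨hlam.V_elem, hlam.card_V, hr, hk, fun x => hlam.lam_mem _, hact, ?_, ?_, ?_, ?_, ?_⟩,
    F.z_mem_V L, fun X hX => F.exists_conj_le_normalizer_V L hX,
    fun X hX hXH => F.exists_conj_le_normalizer_V_inH L hX hXH⟩
  · intro x y hxy
    rw [hT]
    exact hlam.pair_mem _ _ (e.injective.ne hxy)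
  · intro d hd
    rw [hT] at hd
    obtain ⟨i, j, hij, rfl⟩ := hlam.pair_surj d hd
    exact ⟨e.symm i, e.symm j, e.symm.injective.ne hij, by
      rw [Equiv.apply_symm_apply, Equiv.apply_symm_apply]⟩
  · intro a b c d hab hcd heq
    rcases hlam.pair_inj _ _ _ _ (e.injective.ne hab) (e.injective.ne hcd) heq with g | g
    · exact Or.inl ⟨e.injective g.1, e.injective g.2⟩
    · exact Or.inr ⟨e.injective g.1, e.injective g.2⟩
  · intro a b c d hab hcd hac had hbc hbd
    rw [hT]
    exact hlam.disjoint_notMem _ _ _ _ (e.injective.ne hab) (e.injective.ne hcd) (e.injective.ne hac)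
      (e.injective.ne had) (e.injective.ne hbc) (e.injective.ne hbd)
  · intro d hd
    rw [hT] at hd
    exact D.centralizer_le_normalizer hd

end CfsgLib.JFour
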