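import Mathlib
import Cfsg.Prelude.Def_Sporadic_a
import Cfsg.Agent.Lib.JFour.OrbitBase

/-!
# The normalizer of an elementary abelian `2 ^ 11` seen on 24 points: interface
-/

set_option autoImplicit false

open Cfsg

namespace CfsgLib.JFour.TwoTen

variable {G : Type*} [Group G]

/-- `p` labels the elements of `V` outside the class of `z` by the pairs of the 24 points of the binary code,
and `q` is the action of the normalizer of `V` on the points. -/
structure Model (z : G) (V : Subgroup G) (p : GolayPt → G)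
    (q : ↥(Subgroup.normalizer (V : Set G)) →* Equiv.Perm GolayPt) : Prop where
  elem : Cfsg.IsElementaryAbelian 2 V
  card_V : Nat.card ↥V = 2 ^ 11
  range : q.range = Cfsg.M24
  ker : q.ker = V.subgroupOf (Subgroup.normalizer (V : Set G))
  mem : ∀ x, p x ∈ V
  act : ∀ (n : ↥(Subgroup.normalizer (V : Set G))) (x y : GolayPt), x ≠ y →
    (n : G) * (p x * p y) * (n : G)⁻¹ = p (q n x) * p (q n y)
  pair : ∀ x y, x ≠ y → p x * p y ∈ otherClass z V
  surj : ∀ d ∈ otherClass z V, ∃ x y, x ≠ y ∧ d = p x * p y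
  pair_inj : ∀ a b c d, a ≠ b → c ≠ d → p a * p b = p c * p d → (a = c ∧ b = d) ∨ (a = d ∧ b = c)
  disjoint : ∀ a b c d, a ≠ b → c ≠ d → a ≠ c → a ≠ d → b ≠ c → b ≠ d →
    p a * p b * (p c * p d) ∉ otherClass z V
  cent_duad : ∀ d ∈ otherClass z V,
    Subgroup.centralizer ({d} : Set G) ≤ Subgroup.normalizer (V : Set G)

namespace Model

variable {z : G} {V : Subgroup G} {p : GolayPt → G}
  {q : ↥(Subgroup.normalizer (V : Set G)) →* Equiv.Perm GolayPt} (M : Model z V p q)
include M

theorem sq {x : G} (hx : x ∈ V) : x * x = 1 := by rw [← pow_two]; exact M.elem.2 x hx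

theorem comm {x y : G} (hx : x ∈ V) (hy : y ∈ V) : x * y = y * x :=
  congrArg Subtype.val (M.elem.1.is_comm.comm (⟨x, hx⟩ : ↥V) ⟨y, hy⟩)

theorem cancel {a : G} (ha : a ∈ V) (b : G) : a * (a * b) = b := by rw [← mul_assoc, M.sq ha, one_mul]

theorem duad_mem (a b : GolayPt) : p a * p b ∈ V := V.mul_mem (M.mem a) (M.mem b)

theorem duad_comm (a b : GolayPt) : p a * p b = p b * p a := M.comm (M.mem a) (M.mem b)

/-- Two pairs with a common point. -/
theorem duad_mul (a b c : GolayPt) : p a * p b * (p b * p c) = p a * p c := by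
  rw [mul_assoc, M.cancel (M.mem b)]

theorem duad_ne_one {a b : GolayPt} (h : a ≠ b) : p a * p b ≠ 1 := (M.pair a b h).2.1

theorem duad_not_conj {a b : GolayPt} (h : a ≠ b) : ¬ IsConj z (p a * p b) := (M.pair a b h).2.2

/-- Four points give an element of `V` other than `1`. -/
theorem quad_ne_one {a b c d : GolayPt} (hab : a ≠ b) (hcd : c ≠ d) (hac : a ≠ c) (had : a ≠ d) :
    p a * p b * (p c * p d) ≠ 1 := by
  intro h
  have h' : p a * p b = p c * p d := by
    rw [mul_eq_one_iff_eq_inv] at h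
    rw [h, inv_eq_of_mul_eq_one_right (M.sq (M.duad_mem c d))]
  rcases M.pair_inj a b c d hab hcd h' with g | g
  · exact hac g.1
  · exact had g.1

/-- Four points give a conjugate of `z`. -/
theorem quad_isConj {a b c d : GolayPt} (hab : a ≠ b) (hcd : c ≠ d) (hac : a ≠ c) (had : a ≠ d)
    (hbc : b ≠ c) (hbd : b ≠ d) : IsConj z (p a * p b * (p c * p d)) :=
  by_contra fun h => M.disjoint a b c d hab hcd hac had hbc hbd
    ⟨V.mul_mem (M.duad_mem a b) (M.duad_mem c d), M.quad_ne_one hab hcd hac had, h⟩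

theorem q_mem (n : ↥(Subgroup.normalizer (V : Set G))) : q n ∈ Cfsg.M24 :=
  M.range ▸ ⟨n, rfl⟩

theorem exists_lift {s : Equiv.Perm GolayPt} (hs : s ∈ Cfsg.M24) :
    ∃ n : ↥(Subgroup.normalizer (V : Set G)), q n = s := by
  rw [← M.range] at hs; exact hs

theorem q_eq_one_iff (n : ↥(Subgroup.normalizer (V : Set G))) : q n = 1 ↔ (n : G) ∈ V := by
  rw [← MonoidHom.mem_ker, M.ker, Subgroup.mem_subgroupOf]

theorem le_normalizer : V ≤ Subgroup.normalizer (V : Set G) := Subgroup.le_normalizer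

/-- Two elements with the same image act equally on `V`. -/
theorem conj_eq_of_q_eq {m n : ↥(Subgroup.normalizer (V : Set G))} (h : q m = q n) {v : G} (hv : v ∈ V) :
    (m : G) * v * (m : G)⁻¹ = (n : G) * v * (n : G)⁻¹ := by
  have hu : ((n⁻¹ * m : ↥(Subgroup.normalizer (V : Set G))) : G) ∈ V := by
    rw [← M.q_eq_one_iff, map_mul, map_inv, h, inv_mul_cancel]
  rw [Subgroup.coe_mul, Subgroup.coe_inv] at hu
  calc (m : G) * v * (m : G)⁻¹
      = (n : G) * ((n : G)⁻¹ * (m : G) * v * ((n : G)⁻¹ * (m : G))⁻¹) * (n : G)⁻¹ := by group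
    _ = (n : G) * v * (n : G)⁻¹ := by rw [M.comm hu hv, mul_inv_cancel_right]

theorem commute_duad_iff (n : ↥(Subgroup.normalizer (V : Set G))) {a b : GolayPt} (h : a ≠ b) :
    (n : G) * (p a * p b) = p a * p b * (n : G) ↔
      (q n a = a ∧ q n b = b) ∨ (q n a = b ∧ q n b = a) := by
  rw [← mul_inv_eq_iff_eq_mul, M.act n a b h]
  constructor
  · intro e
    rcases M.pair_inj _ _ a b ((q n).injective.ne h) h e with g | g
    · exact Or.inl g
    · exact Or.inr g
  · rintro (⟨h1, h2⟩ | ⟨h1, h2⟩)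
    · rw [h1, h2]
    · rw [h1, h2, M.duad_comm]

end Model

end CfsgLib.JFour.TwoTen
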