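import Cfsg.Agent.Lib.JFour.TwoTen.Lift

/-!
# The orbits 155 and 868 on a self-centralizing `2 ^ 10`
-/

set_option autoImplicit false
set_option linter.unusedSectionVars false
set_option linter.style.haveILetI false

open Cfsg
open scoped Pointwise

namespace CfsgLib.JFour.TwoTen

open CfsgLib.GolayStructure

variable {G : Type*} [Group G] [Finite G] {z : G} {V : Subgroup G} {p : GolayPt → G}
  {q : ↥(Subgroup.normalizer (V : Set G)) →* Equiv.Perm GolayPt}

/-- What is used about the whole group. -/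
structure Global (z : G) (V : Subgroup G) : Prop where
  z_mem : z ∈ V
  sylow : ∀ X : Subgroup G, IsPGroup 2 ↥X →
    ∃ g : G, X.map (MulAut.conj g).toMonoidHom ≤ Subgroup.normalizer (V : Set G)
  sylowZ : ∀ X : Subgroup G, IsPGroup 2 ↥X → X ≤ Subgroup.centralizer ({z} : Set G) →
    ∃ h ∈ Subgroup.centralizer ({z} : Set G),
      X.map (MulAut.conj h).toMonoidHom ≤ Subgroup.normalizer (V : Set G)
  fusion : ∀ x : G, orderOf x = 2 → IsConj z x ∨ ∃ d ∈ otherClass z V, IsConj d x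

theorem isConj_conj_iff {z u n : G} : IsConj z (n * u * n⁻¹) ↔ IsConj z u :=
  ⟨fun h => h.trans (isConj_iff.2 ⟨n⁻¹, by group⟩), fun h => h.trans (isConj_iff.2 ⟨n, rfl⟩)⟩

namespace Model

variable (M : Model z V p q)
include M

theorem map_two (a b a' b' : GolayPt) (h : a ≠ b) (h' : a' ≠ b') :
    ∃ n : ↥(Subgroup.normalizer (V : Set G)), (n : G) * (p a * p b) * (n : G)⁻¹ = p a' * p b' := by
  obtain ⟨s, hs, h1, h2⟩ : ∃ s ∈ Cfsg.M24, s a = a' ∧ s b = b' := by
    haveI : MulAction.IsMultiplyPretransitive ↥Cfsg.M24 GolayPt 2 := CfsgLib.Golay.M24_two_transitive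
    obtain ⟨s, h1, h2⟩ := (MulAction.is_two_pretransitive_iff (G := ↥Cfsg.M24) (α := GolayPt)).1
      inferInstance h h'
    exact ⟨s.1, s.2, h1, h2⟩
  obtain ⟨n, hn⟩ := M.exists_lift hs
  exact ⟨n, by rw [M.act n a b h, hn, h1, h2]⟩

theorem trans_other {d d' : G} (hd : d ∈ otherClass z V) (hd' : d' ∈ otherClass z V) :
    ∃ n ∈ Subgroup.normalizer (V : Set G), n * d * n⁻¹ = d' := by
  obtain ⟨a, b, hab, rfl⟩ := M.surj d hd
  obtain ⟨a', b', hab', rfl⟩ := M.surj d' hd'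
  obtain ⟨n, hn⟩ := M.map_two a b a' b' hab hab'
  exact ⟨n, n.2, hn⟩

/-- Three further points determine the product. -/
theorem triple_inj {b c d b' c' d' : GolayPt} (hbc : b ≠ c) (hbd : b ≠ d) (hcd : c ≠ d) (hbc' : b' ≠ c')
    (hbd' : b' ≠ d') (hcd' : c' ≠ d') (h : p b * p c * p d = p b' * p c' * p d') :
    ({b, c, d} : Finset GolayPt) = {b', c', d'} := by
  letI : CommGroup ↥V := { (inferInstance : Group ↥V) with mul_comm := fun x y => Subtype.ext (M.comm x.2 y.2) }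
  let P : GolayPt → ↥V := fun x => ⟨p x, M.mem x⟩
  have hP : P b * P c * P d = P b' * P c' * P d' := Subtype.ext h
  have hinj : ∀ {w x y u : GolayPt}, w ≠ x → y ≠ u → P w * P x = P y * P u → w = y ∨ w = u := by
    intro w x y u hwx hyu e
    rcases M.pair_inj w x y u hwx hyu (congrArg Subtype.val e) with g | g
    · exact Or.inl g.1
    · exact Or.inr g.1
  have key : ∀ {b c d b' c' d' : GolayPt}, b ≠ c → b ≠ d → c ≠ d → b' ≠ c' → b' ≠ d' → c' ≠ d' →
      P b * P c * P d = P b' * P c' * P d' → b ∈ ({b', c', d'} : Finset GolayPt) := by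
    intro b c d b' c' d' hbc hbd hcd hbc' hbd' hcd' hP
    by_contra hb
    simp only [Finset.mem_insert, Finset.mem_singleton, not_or] at hb
    obtain ⟨hb1, hb2, hb3⟩ := hb
    have hone : ∀ {x y b' c' d' : GolayPt}, b ≠ x → b ≠ c' → b ≠ d' → c' ≠ d' → y = b' →
        P b * P x * P y = P b' * P c' * P d' → False := by
      intro x y b' c' d' hbx h2 h3 hcd' e hP
      subst e
      rcases hinj hbx hcd' (mul_right_cancel (b := P y) (by rw [hP]; simp only [mul_comm, mul_left_comm, mul_assoc]) :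
        P b * P x = P c' * P d') with g | g
      · exact h2 g
      · exact h3 g
    have hall : ∀ {x y : GolayPt}, b ≠ x → P b * P x * P y = P b' * P c' * P d' →
        y ≠ b' ∧ y ≠ c' ∧ y ≠ d' := by
      intro x y hbx hP
      refine ⟨fun e => hone hbx hb2 hb3 hcd' e hP, fun e => hone hbx hb1 hb3 hbd' e ?_,
        fun e => hone hbx hb1 hb2 hbc' e ?_⟩
      · rw [hP]; simp only [mul_comm, mul_left_comm, mul_assoc]
      · rw [hP]; simp only [mul_comm, mul_left_comm, mul_assoc]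
    obtain ⟨hd1, hd2, hd3⟩ := hall hbc hP
    obtain ⟨hc1, hc2, hc3⟩ := hall hbd (by rw [← hP]; simp only [mul_comm, mul_left_comm, mul_assoc] : P b * P d * P c = _)
    have he : P b * P c * (P d * P b') = P c' * P d' := by
      rw [← mul_assoc, hP]
      have hs : P b' * P b' = 1 := Subtype.ext (M.sq (M.mem b'))
      calc P b' * P c' * P d' * P b' = P b' * P b' * (P c' * P d') := by simp only [mul_comm, mul_left_comm, mul_assoc]
        _ = _ := by rw [hs, one_mul]
    have hmem := M.pair c' d' hcd'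
    rw [show p c' * p d' = p b * p c * (p d * p b') from (congrArg Subtype.val he).symm] at hmem
    exact M.disjoint b c d b' hbc hd1 hbd hb1 hcd hc1 hmem
  refine Finset.eq_of_subset_of_card_le (fun x hx => ?_) ?_
  · simp only [Finset.mem_insert, Finset.mem_singleton] at hx
    rcases hx with rfl | rfl | rfl
    · exact key hbc hbd hcd hbc' hbd' hcd' hP
    · exact key hbc.symm hcd hbd hbc' hbd' hcd' (by rw [← hP]; simp only [mul_comm, mul_left_comm, mul_assoc])
    · exact key hbd.symm hcd.symm hbc hbc' hbd' hcd' (by rw [← hP]; simp only [mul_comm, mul_left_comm, mul_assoc])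
  · rw [Finset.card_eq_three.2 ⟨b, c, d, hbc, hbd, hcd, rfl⟩,
      Finset.card_eq_three.2 ⟨b', c', d', hbc', hbd', hcd', rfl⟩]

variable {o : Finset GolayPt}

theorem other_span (ho : o ∈ octads) :
    {u | u ∈ octSpan p o ∧ u ≠ 1 ∧ ¬ IsConj z u}.ncard = 28 ∧
    ∀ u ∈ octSpan p o, u ≠ 1 → ¬ IsConj z u → ∃ a b, a ∈ o ∧ b ∈ o ∧ a ≠ b ∧ u = p a * p b := by
  classical
  have hchar : ∀ u ∈ octSpan p o, u ≠ 1 → ¬ IsConj z u →
      ∃ a b, a ∈ o ∧ b ∈ o ∧ a ≠ b ∧ u = p a * p b := by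
    intro u hu hu1 huc
    obtain ⟨a, b, hab, rfl⟩ := M.surj u ⟨M.octSpan_le o hu, hu1, huc⟩
    refine ⟨a, b, ?_, ?_, hab, rfl⟩
    · by_contra h; exact M.duad_outside_notMem ho h hab hu
    · by_contra h; exact M.duad_outside_notMem ho h hab.symm (M.duad_comm a b ▸ hu)
  refine ⟨?_, hchar⟩
  let e := Fintype.equivFin GolayPt
  let T : Finset (Finset GolayPt) := o.powersetCard 2
  have hT : ∀ s ∈ T, ∃ a b, a ∈ o ∧ b ∈ o ∧ a ≠ b ∧ s = {a, b} := fun s hs => by
    obtain ⟨hso, hs2⟩ := Finset.mem_powersetCard.1 hs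
    obtain ⟨a, b, hab, rfl⟩ := Finset.card_eq_two.1 hs2
    exact ⟨a, b, hso (by simp), hso (by simp), hab, rfl⟩
  choose! fa fb hfa hfb hfab hfs using hT
  have himg : {u | u ∈ octSpan p o ∧ u ≠ 1 ∧ ¬ IsConj z u} = ↑(T.image fun s => p (fa s) * p (fb s)) := by
    ext u
    simp only [Set.mem_setOf_eq, Finset.coe_image, Set.mem_image, Finset.mem_coe]
    constructor
    · rintro ⟨hu, hu1, huc⟩
      obtain ⟨a, b, ha, hb, hab, rfl⟩ := hchar u hu hu1 huc
      have hs : ({a, b} : Finset GolayPt) ∈ T :=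
        Finset.mem_powersetCard.2 ⟨by intro w hw; rcases Finset.mem_insert.1 hw with rfl | hw
                                      · exact ha
                                      · rw [Finset.mem_singleton.1 hw]; exact hb,
          Finset.card_pair hab⟩
      refine ⟨_, hs, ?_⟩
      have hgen : ∀ w ∈ ({fa {a, b}, fb {a, b}} : Finset GolayPt), w ∈ ({a, b} : Finset GolayPt) :=
        fun w hw => (hfs _ hs).ge hw
      have h1 := hgen (fa {a, b}) (Finset.mem_insert_self _ _)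
      have h2 := hgen (fb {a, b}) (Finset.mem_insert_of_mem (Finset.mem_singleton_self _))
      simp only [Finset.mem_insert, Finset.mem_singleton] at h1 h2
      rcases h1 with h1 | h1 <;> rcases h2 with h2 | h2
      · exact absurd (h1.trans h2.symm) (hfab _ hs)
      · rw [h1, h2]
      · rw [h1, h2, M.duad_comm]
      · exact absurd (h1.trans h2.symm) (hfab _ hs)
    · rintro ⟨s, hs, rfl⟩
      exact ⟨duad_mem_octSpan p (hfa s hs) (hfb s hs) (hfab s hs), M.duad_ne_one (hfab s hs),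
        M.duad_not_conj (hfab s hs)⟩
  rw [himg, Set.ncard_coe_finset, Finset.card_image_of_injOn, Finset.card_powersetCard, card_octad ho]
  · rfl
  · intro s hs t ht h
    rw [hfs s hs, hfs t ht]
    rcases M.pair_inj _ _ _ _ (hfab s hs) (hfab t ht) h with g | g
    · rw [g.1, g.2]
    · rw [g.1, g.2, Finset.pair_comm]

theorem z_span (ho : o ∈ octads) :
    {u | u ∈ octSpan p o ∧ IsConj z u}.ncard = 35 ∧
    ∀ u ∈ octSpan p o, IsConj z u → ∃ w : Fin 4 ↪ GolayPt, (∀ i, w i ∈ o) ∧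
      u = p (w 0) * p (w 1) * (p (w 2) * p (w 3)) := by
  classical
  have hz1 : ¬ IsConj z (1 : G) := by
    intro h
    obtain ⟨x, y, u, w, hxy, huw, h1, h2, h3, h4⟩ : ∃ x y u w : GolayPt,
        x ≠ y ∧ u ≠ w ∧ x ≠ u ∧ x ≠ w ∧ y ≠ u ∧ y ≠ w :=
      ⟨some 0, some 1, some 2, some 3, by decide, by decide, by decide, by decide, by decide, by decide⟩
    have h5 := M.quad_isConj hxy huw h1 h2 h3 h4
    have hz : z = 1 := isConj_one_left.1 h
    rw [hz] at h5
    exact M.quad_ne_one hxy huw h1 h2 (isConj_one_right.1 h5)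
  obtain ⟨h28, -⟩ := M.other_span (o := o) ho
  set L := {u | u ∈ octSpan p o ∧ IsConj z u}
  set D := {u | u ∈ octSpan p o ∧ u ≠ 1 ∧ ¬ IsConj z u}
  have h64 : (L ∪ D ∪ {1}).ncard = 64 := by
    rw [show L ∪ D ∪ {1} = ((octSpan p o : Subgroup G) : Set G) from ?_,
      ← Nat.card_coe_set_eq, SetLike.coe_sort_coe, M.card_octSpan ho]
    · rfl
    ext u
    simp only [L, D, Set.mem_union, Set.mem_setOf_eq, Set.mem_singleton_iff, SetLike.mem_coe]
    constructor
    · rintro ((h | h) | rfl)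
      · exact h.1
      · exact h.1
      · exact one_mem _
    · intro h
      by_cases h1 : u = 1
      · exact Or.inr h1
      by_cases h2 : IsConj z u
      · exact Or.inl (Or.inl ⟨h, h2⟩)
      · exact Or.inl (Or.inr ⟨h, h1, h2⟩)
  rw [Set.ncard_union_eq ?_ (Set.toFinite _) (Set.toFinite _),
    Set.ncard_union_eq ?_ (Set.toFinite _) (Set.toFinite _), h28, Set.ncard_singleton] at h64
  rotate_left
  · exact Set.disjoint_left.2 fun u h h' => h'.2.2 h.2
  · rw [Set.disjoint_singleton_right]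
    rintro (h | h)
    · exact hz1 h.2
    · exact h.2.1 rfl
  have h35 : L.ncard = 35 := by omega
  refine ⟨h35, ?_⟩
  obtain ⟨a, ha⟩ : o.Nonempty := Finset.card_pos.1 (by rw [card_octad ho]; omega)
  let T := (o.erase a).powersetCard 3
  have hT : ∀ s ∈ T, ∃ b c d, b ≠ c ∧ b ≠ d ∧ c ≠ d ∧ s = {b, c, d} := fun s hs =>
    Finset.card_eq_three.1 (Finset.mem_powersetCard.1 hs).2
  choose! fb fc fd hbc hbd hcd hfs using hT
  have hmem : ∀ s ∈ T, ∀ x ∈ ({fb s, fc s, fd s} : Finset GolayPt), x ∈ o ∧ x ≠ a := by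
    intro s hs x hx
    have := (Finset.mem_powersetCard.1 hs).1 ((hfs s hs).symm ▸ hx)
    exact ⟨(Finset.mem_erase.1 this).2, (Finset.mem_erase.1 this).1⟩
  let F : Finset GolayPt → G := fun s => p a * p (fb s) * (p (fc s) * p (fd s))
  have hsub : ↑(T.image F) ⊆ L := by
    intro u hu
    obtain ⟨s, hs, rfl⟩ := Finset.mem_image.1 (Finset.mem_coe.1 hu)
    have hb := hmem s hs (fb s) (by simp)
    have hc := hmem s hs (fc s) (by simp)
    have hd := hmem s hs (fd s) (by simp)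
    exact ⟨mul_mem (duad_mem_octSpan p ha hb.1 hb.2.symm) (duad_mem_octSpan p hc.1 hd.1 (hcd s hs)),
      M.quad_isConj hb.2.symm (hcd s hs) hc.2.symm hd.2.symm (hbc s hs) (hbd s hs)⟩
  have hc35 : (T.image F).card = 35 := by
    rw [Finset.card_image_of_injOn, Finset.card_powersetCard, Finset.card_erase_of_mem ha, card_octad ho]
    · rfl
    · intro s hs t ht h
      rw [hfs s hs, hfs t ht]
      refine M.triple_inj (hbc s hs) (hbd s hs) (hcd s hs) (hbc t ht) (hbd t ht) (hcd t ht) ?_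
      have h' : p a * (p (fb s) * p (fc s) * p (fd s)) = p a * (p (fb t) * p (fc t) * p (fd t)) := by
        simpa [F, mul_assoc] using h
      exact mul_left_cancel h'
  have hEq := Set.eq_of_subset_of_ncard_le hsub (by rw [Set.ncard_coe_finset, hc35, h35]) (Set.toFinite _)
  intro u hu huc
  have : u ∈ (↑(T.image F) : Set G) := hEq.symm ▸ (⟨hu, huc⟩ : u ∈ L)
  obtain ⟨s, hs, rfl⟩ := Finset.mem_image.1 (Finset.mem_coe.1 this)
  have hb := hmem s hs (fb s) (by simp)
  have hc := hmem s hs (fc s) (by simp)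
  have hd := hmem s hs (fd s) (by simp)
  refine ⟨⟨![a, fb s, fc s, fd s], ?_⟩, ?_, rfl⟩
  · have := hbc s hs; have := hbd s hs; have := hcd s hs
    have := hb.2.symm; have := hc.2.symm; have := hd.2.symm
    intro i j hij
    fin_cases i <;> fin_cases j <;> first | rfl | exact absurd hij ‹_› | exact absurd hij.symm ‹_›
  · intro i
    fin_cases i
    exacts [ha, hb.1, hc.1, hd.1]

end Model

theorem arith : ∀ k r : Fin 37, (r : ℕ) ≤ k → 1 ≤ (r : ℕ) → 35 * (k : ℕ) = (1023 - 28 * (k : ℕ)) * r →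
    (k : ℕ) = 31 ∧ (r : ℕ) = 7 := by
  decide +kernel

/-- The orbit facts for a self-centralizing `2 ^ 10` inside `N(V)`. -/
theorem exists_orbits (M : Model z V p q) (Γ : Global z V) {A : Subgroup G} (hA : IsTen A)
    (hle : A ≤ Subgroup.normalizer (V : Set G)) : ∃ o, Orbits z p q o A := by
  classical
  obtain ⟨o, O⟩ := M.exists_over hA hle
  refine ⟨o, ?_⟩
  have ho := O.oct
  have hAp : IsPGroup 2 ↥A := fun a => ⟨1, Subtype.ext (by rw [pow_one]; exact hA.elem.2 a.1 a.2)⟩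
  have hzord : z ≠ 1 := by
    intro h
    obtain ⟨u, hu, huz⟩ : ∃ u, u ∈ octSpan p o ∧ IsConj z u := by
      obtain ⟨u, hu⟩ := Set.nonempty_of_ncard_ne_zero (s := {u | u ∈ octSpan p o ∧ IsConj z u})
        (by rw [(M.z_span ho).1]; norm_num)
      exact ⟨u, hu⟩
    rw [h] at huz
    obtain ⟨w, -, e⟩ := (M.z_span ho).2 u hu (h ▸ huz)
    have hu1 : u = 1 := isConj_one_right.1 huz
    exact M.quad_ne_one (w.injective.ne (by decide : (0 : Fin 4) ≠ 1)) (w.injective.ne (by decide : (2 : Fin 4) ≠ 3))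
      (w.injective.ne (by decide : (0 : Fin 4) ≠ 2)) (w.injective.ne (by decide : (0 : Fin 4) ≠ 3)) (e.symm.trans hu1)
  have hnotz1 : ¬ IsConj z (1 : G) := fun h => hzord (isConj_one_left.1 h)
  -- frames
  have htr : ∀ W ∈ frames V A, ∃ n ∈ Subgroup.normalizer (A : Set G),
      V.map (MulAut.conj n).toMonoidHom = W := by
    rintro W ⟨⟨g, rfl⟩, hAW⟩
    have hA' : A.map (MulAut.conj g⁻¹).toMonoidHom ≤ Subgroup.normalizer (V : Set G) := by
      intro x hx
      rw [mem_map_conj, inv_inv] at hx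
      rw [← map_conj_eq_iff]
      have h1 := map_conj_eq_iff.2 (hAW hx)
      rw [map_conj_mul] at h1
      have h2 := congrArg (Subgroup.map (MulAut.conj g⁻¹).toMonoidHom) h1
      rw [map_conj_mul, map_conj_mul, show g⁻¹ * (g * x * g⁻¹ * g) = x by group, inv_mul_cancel] at h2
      rw [h2]; ext y; simp
    obtain ⟨n, hn, e⟩ := exists_conj_ten M hA (hA.conj g⁻¹) hle hA'
    refine ⟨g * n, map_conj_eq_iff.1 ?_, ?_⟩
    · rw [← map_conj_mul, e, map_conj_mul, mul_inv_cancel]; ext y; simp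
    · rw [← map_conj_mul, map_conj_eq_iff.2 hn]
  have hframe : ∀ n ∈ Subgroup.normalizer (A : Set G), ∀ W ∈ frames V A,
      W.map (MulAut.conj n).toMonoidHom ∈ frames V A := by
    rintro n hn W ⟨⟨g, rfl⟩, hAW⟩
    refine ⟨⟨n * g, (map_conj_mul _ _ _).symm⟩, fun a ha => ?_⟩
    rw [← map_conj_eq_iff, map_conj_mul]
    have ha' : n⁻¹ * a * n ∈ A := by
      have := (Subgroup.mem_normalizer_iff.1 (inv_mem hn) a).1 ha
      simpa [mul_assoc] using this
    have h1 := map_conj_eq_iff.2 (hAW ha')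
    conv_rhs => rw [← h1, map_conj_mul, show n * (n⁻¹ * a * n) = a * n by group]
  have hV : V ∈ frames V A := ⟨⟨1, by ext x; simp⟩, hle⟩
  have hAconj : ∀ {n u : G}, n ∈ Subgroup.normalizer (A : Set G) → u ∈ A → n * u * n⁻¹ ∈ A :=
    fun hn hu => (Subgroup.mem_normalizer_iff.1 hn _).1 hu
  -- one frame through each element outside the class of `z`
  have huniq : ∀ u ∈ A, u ≠ 1 → ¬ IsConj z u → ∃! W, W ∈ frames V A ∧ u ∈ W := by
    intro u hu hu1 huc
    obtain ⟨d, hd, hdu⟩ := (Γ.fusion u (orderOf_eq_prime (hA.elem.2 u hu) hu1)).resolve_left huc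
    obtain ⟨c, rfl⟩ := isConj_iff.1 hdu
    refine ⟨V.map (MulAut.conj c).toMonoidHom, ⟨⟨⟨c, rfl⟩, fun a ha => ?_⟩, mem_map_conj_of hd.1⟩, ?_⟩
    · rw [← map_conj_eq_iff, map_conj_mul]
      have hac : c⁻¹ * a * c ∈ Subgroup.centralizer ({d} : Set G) := by
        rw [Subgroup.mem_centralizer_singleton_iff]
        have := hA.comm ha hu
        calc c⁻¹ * a * c * d = c⁻¹ * (a * (c * d * c⁻¹)) * c := by group
          _ = d * (c⁻¹ * a * c) := by rw [this]; group
      have h1 := map_conj_eq_iff.2 (M.cent_duad d hd hac)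
      conv_rhs => rw [← h1, map_conj_mul, show c * (c⁻¹ * a * c) = a * c by group]
    · rintro W ⟨⟨⟨g, rfl⟩, -⟩, huW⟩
      rw [mem_map_conj] at huW
      have hd' : g⁻¹ * (c * d * c⁻¹) * g ∈ otherClass z V := by
        have hconj : ∀ {w : G}, IsConj z (g⁻¹ * w * g) → IsConj z w := fun {w} h =>
          h.trans (isConj_iff.2 ⟨g, by group⟩)
        exact ⟨huW, fun e => hu1 (by
          have h2 : c * d * c⁻¹ = g * (g⁻¹ * (c * d * c⁻¹) * g) * g⁻¹ := by group
          rw [h2, e]; group), fun h => huc (hconj h)⟩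
      obtain ⟨n, hn, e⟩ := M.trans_other hd hd'
      have hcg : c⁻¹ * g * n ∈ Subgroup.centralizer ({d} : Set G) := by
        rw [Subgroup.mem_centralizer_singleton_iff]
        calc c⁻¹ * g * n * d = c⁻¹ * g * (n * d * n⁻¹) * n := by group
          _ = d * (c⁻¹ * g * n) := by rw [e]; group
      have h2 : c⁻¹ * g ∈ Subgroup.normalizer (V : Set G) := by
        have := mul_mem (M.cent_duad d hd hcg) (inv_mem hn)
        rwa [mul_inv_cancel_right] at this
      conv_rhs => rw [← map_conj_eq_iff.2 h2, map_conj_mul, mul_inv_cancel_left]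
  -- the normalizer is transitive on both kinds inside `A ⊓ V`
  have hinfz : ∀ u ∈ zPart z (A ⊓ V), ∀ v ∈ zPart z (A ⊓ V),
      ∃ n ∈ Subgroup.normalizer (A : Set G), n * u * n⁻¹ = v := by
    rintro u ⟨hu, huc⟩ v ⟨hv, hvc⟩
    rw [O.inf] at hu hv
    obtain ⟨a, ha, rfl⟩ := (M.z_span ho).2 u hu huc
    obtain ⟨b, hb, rfl⟩ := (M.z_span ho).2 v hv hvc
    obtain ⟨s, hs, hsi⟩ := exists_map_four ho a b ha hb
    obtain ⟨n, hn, e⟩ := O.exists_lift M hA hs
    refine ⟨n, hn, ?_⟩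
    rw [show (n : G) * (p (a 0) * p (a 1) * (p (a 2) * p (a 3))) * (n : G)⁻¹ =
        (n : G) * (p (a 0) * p (a 1)) * (n : G)⁻¹ * ((n : G) * (p (a 2) * p (a 3)) * (n : G)⁻¹) by group,
      M.act n _ _ (a.injective.ne (by decide : (0 : Fin 4) ≠ 1)),
      M.act n _ _ (a.injective.ne (by decide : (2 : Fin 4) ≠ 3)), e, hsi, hsi, hsi, hsi]
  have hinfo : ∀ u ∈ A ⊓ V, u ≠ 1 → ¬ IsConj z u → ∀ v ∈ A ⊓ V, v ≠ 1 → ¬ IsConj z v →
      ∃ n ∈ Subgroup.normalizer (A : Set G), n * u * n⁻¹ = v := by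
    intro u hu hu1 huc v hv hv1 hvc
    rw [O.inf] at hu hv
    obtain ⟨a, b, ha, hb, hab, rfl⟩ := (M.other_span ho).2 u hu hu1 huc
    obtain ⟨a', b', ha', hb', hab', rfl⟩ := (M.other_span ho).2 v hv hv1 hvc
    have h4 : ∀ x y, x ∈ o → y ∈ o → x ≠ y → ∃ w : Fin 4 ↪ GolayPt, (∀ i, w i ∈ o) ∧ w 0 = x ∧ w 1 = y := by
      intro x y hx hy hxy
      obtain ⟨u1, u2, hu1, hu2, h12⟩ : ∃ u1 u2, u1 ∈ (o.erase x).erase y ∧ u2 ∈ (o.erase x).erase y ∧ u1 ≠ u2 := by
        obtain ⟨u1, h1, u2, h2, h⟩ := Finset.one_lt_card.1 (by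
          rw [Finset.card_erase_of_mem (Finset.mem_erase.2 ⟨hxy.symm, hy⟩), Finset.card_erase_of_mem hx,
            card_octad ho]
          norm_num : 1 < ((o.erase x).erase y).card)
        exact ⟨u1, u2, h1, h2, h⟩
      simp only [Finset.mem_erase] at hu1 hu2
      obtain ⟨h1y, h1x, h1o⟩ := hu1
      obtain ⟨h2y, h2x, h2o⟩ := hu2
      refine ⟨⟨![x, y, u1, u2], fun i j hij => by fin_cases i <;> fin_cases j <;> simp_all⟩, fun i => ?_,
        rfl, rfl⟩
      fin_cases i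
      exacts [hx, hy, h1o, h2o]
    obtain ⟨w, hw, w0, w1⟩ := h4 a b ha hb hab
    obtain ⟨w', hw', w0', w1'⟩ := h4 a' b' ha' hb' hab'
    obtain ⟨s, hs, hsi⟩ := exists_map_four ho w w' hw hw'
    obtain ⟨n, hn, e⟩ := O.exists_lift M hA hs
    refine ⟨n, hn, ?_⟩
    rw [M.act n a b hab, e, ← w0, ← w1, hsi, hsi, w0', w1']
  have hreachz : ∀ u ∈ zPart z A, ∃ n ∈ Subgroup.normalizer (A : Set G),
      n * u * n⁻¹ ∈ zPart z (A ⊓ V) := by
    rintro u ⟨hu, huc⟩
    obtain ⟨g, hg⟩ := isConj_iff.1 huc.symm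
    set A' := A.map (MulAut.conj g).toMonoidHom
    have hzA' : z ∈ A' := hg ▸ mem_map_conj_of hu
    have hA'C : A' ≤ Subgroup.centralizer ({z} : Set G) := fun x hx =>
      Subgroup.mem_centralizer_singleton_iff.2 ((hA.conj g).comm hx hzA')
    obtain ⟨h, hh, hle'⟩ := Γ.sylowZ A' (fun a => ⟨1, Subtype.ext (by
      rw [pow_one]; exact (hA.conj g).elem.2 a.1 a.2)⟩) hA'C
    have hhz := Subgroup.mem_centralizer_singleton_iff.1 hh
    obtain ⟨n, hn, e⟩ := exists_conj_ten M ((hA.conj g).conj h) hA hle' hle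
    have hN : n * h * g ∈ Subgroup.normalizer (A : Set G) := map_conj_eq_iff.1 (by
      rw [← map_conj_mul, ← map_conj_mul]; exact e)
    have hval : n * h * g * u * (n * h * g)⁻¹ = n * z * n⁻¹ := by
      calc n * h * g * u * (n * h * g)⁻¹ = n * (h * (g * u * g⁻¹) * h⁻¹) * n⁻¹ := by group
        _ = _ := by rw [hg, hhz, mul_inv_cancel_right]
    refine ⟨_, hN, Subgroup.mem_inf.2 ⟨hAconj hN hu, ?_⟩, isConj_conj_iff.2 huc⟩
    rw [hval]
    exact (Subgroup.mem_normalizer_iff.1 hn z).1 Γ.z_mem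
  have htz : ∀ u ∈ zPart z A, ∀ v ∈ zPart z A, ∃ n ∈ Subgroup.normalizer (A : Set G), n * u * n⁻¹ = v := by
    intro u hu v hv
    obtain ⟨n, hn, hn'⟩ := hreachz u hu
    obtain ⟨m, hm, hm'⟩ := hreachz v hv
    obtain ⟨s, hs, e⟩ := hinfz _ hn' _ hm'
    refine ⟨m⁻¹ * s * n, mul_mem (mul_mem (inv_mem hm) hs) hn, ?_⟩
    calc m⁻¹ * s * n * u * (m⁻¹ * s * n)⁻¹ = m⁻¹ * (s * (n * u * n⁻¹) * s⁻¹) * m := by group
      _ = v := by rw [e]; group
  have htrans_o : ∀ u ∈ A, u ≠ 1 → ¬ IsConj z u → ∀ v ∈ A, v ≠ 1 → ¬ IsConj z v →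
      ∃ n ∈ Subgroup.normalizer (A : Set G), n * u * n⁻¹ = v := by
    have hreach : ∀ u ∈ A, u ≠ 1 → ¬ IsConj z u → ∃ n ∈ Subgroup.normalizer (A : Set G),
        n * u * n⁻¹ ∈ A ⊓ V := by
      intro u hu hu1 huc
      obtain ⟨W, ⟨hW, huW⟩, -⟩ := huniq u hu hu1 huc
      obtain ⟨n, hn, rfl⟩ := htr W hW
      rw [mem_map_conj] at huW
      refine ⟨n⁻¹, inv_mem hn, Subgroup.mem_inf.2 ⟨hAconj (inv_mem hn) hu, ?_⟩⟩
      rwa [inv_inv]
    intro u hu hu1 huc v hv hv1 hvc
    obtain ⟨n, hn, hn'⟩ := hreach u hu hu1 huc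
    obtain ⟨m, hm, hm'⟩ := hreach v hv hv1 hvc
    obtain ⟨s, hs, e⟩ := hinfo _ hn' (fun e => hu1 (conj_eq_one_iff.1 e))
      (fun h => huc (isConj_conj_iff.1 h)) _ hm' (fun e => hv1 (conj_eq_one_iff.1 e))
      (fun h => hvc (isConj_conj_iff.1 h))
    refine ⟨m⁻¹ * s * n, mul_mem (mul_mem (inv_mem hm) hs) hn, ?_⟩
    calc m⁻¹ * s * n * u * (m⁻¹ * s * n)⁻¹ = m⁻¹ * (s * (n * u * n⁻¹) * s⁻¹) * m := by group
      _ = v := by rw [e]; group
  -- counting
  have hz35 : (zPart z (A ⊓ V)).ncard = 35 := by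
    rw [← (M.z_span ho).1]; congr 1; ext u; simp only [zPart, O.inf, Set.mem_setOf_eq]
  set Z := zPart z A with hZdef
  set T := {v | v ∈ A ∧ v ≠ 1 ∧ ¬ IsConj z v} with hTdef
  have hperW : ∀ W ∈ frames V A, {v | v ∈ Z ∧ v ∈ W}.ncard = 35 ∧ {v | v ∈ T ∧ v ∈ W}.ncard = 28 := by
    intro W hW
    obtain ⟨n, hn, rfl⟩ := htr W hW
    have hinj : Function.Injective fun x : G => n * x * n⁻¹ := fun a b e => by simpa using e
    have hA' : ∀ {v : G}, v ∈ A → n⁻¹ * v * n ∈ A := fun {v} hv => by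
      have := hAconj (inv_mem hn) hv
      rwa [inv_inv] at this
    constructor
    · rw [show {v | v ∈ Z ∧ v ∈ V.map (MulAut.conj n).toMonoidHom} =
          (fun x => n * x * n⁻¹) '' zPart z (A ⊓ V) from ?_, Set.ncard_image_of_injective _ hinj, hz35]
      ext v
      constructor
      · rintro ⟨⟨hv, hvc⟩, hvW⟩
        rw [mem_map_conj] at hvW
        refine ⟨n⁻¹ * v * n, ⟨Subgroup.mem_inf.2 ⟨hA' hv, hvW⟩, ?_⟩, by group⟩
        exact hvc.trans (isConj_iff.2 ⟨n⁻¹, by group⟩)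
      · rintro ⟨x, ⟨hx, hxc⟩, rfl⟩
        exact ⟨⟨hAconj hn (Subgroup.mem_inf.1 hx).1, isConj_conj_iff.2 hxc⟩,
          mem_map_conj_of (Subgroup.mem_inf.1 hx).2⟩
    · rw [show {v | v ∈ T ∧ v ∈ V.map (MulAut.conj n).toMonoidHom} =
          (fun x => n * x * n⁻¹) '' {u | u ∈ octSpan p o ∧ u ≠ 1 ∧ ¬ IsConj z u} from ?_,
        Set.ncard_image_of_injective _ hinj, (M.other_span ho).1]
      ext v
      constructor
      · rintro ⟨⟨hv, hv1, hvc⟩, hvW⟩
        rw [mem_map_conj] at hvW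
        refine ⟨n⁻¹ * v * n, ⟨?_, ?_, ?_⟩, by group⟩
        · rw [← O.inf]; exact Subgroup.mem_inf.2 ⟨hA' hv, hvW⟩
        · intro e
          exact hv1 (by
            have h2 : v = n * (n⁻¹ * v * n) * n⁻¹ := by group
            rw [h2, e]; group)
        · exact fun h => hvc (h.trans (isConj_iff.2 ⟨n, by group⟩))
      · rintro ⟨x, ⟨hx, hx1, hxc⟩, rfl⟩
        rw [← O.inf] at hx
        exact ⟨⟨hAconj hn (Subgroup.mem_inf.1 hx).1, fun e => hx1 (conj_eq_one_iff.1 e),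
          fun h => hxc (isConj_conj_iff.1 h)⟩, mem_map_conj_of (Subgroup.mem_inf.1 hx).2⟩
  obtain ⟨u₀, hu₀⟩ : (zPart z (A ⊓ V)).Nonempty := Set.nonempty_of_ncard_ne_zero (by rw [hz35]; norm_num)
  have hu₀Z : u₀ ∈ Z := ⟨(Subgroup.mem_inf.1 hu₀.1).1, hu₀.2⟩
  set r := {W | W ∈ frames V A ∧ u₀ ∈ W}.ncard with hr
  have hconst : ∀ u ∈ Z, {W | W ∈ frames V A ∧ u ∈ W}.ncard = r := by
    intro u hu
    obtain ⟨n, hn, rfl⟩ := htz u₀ hu₀Z u hu
    rw [hr]
    refine ((Set.ncard_congr (fun W _ => W.map (MulAut.conj n).toMonoidHom) ?_ ?_ ?_)).symm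
    · rintro W ⟨hW, hu'⟩; exact ⟨hframe n hn W hW, mem_map_conj_of hu'⟩
    · intro W W' _ _ e; exact Subgroup.map_injective (MulAut.conj n).injective e
    · rintro W ⟨hW, hu'⟩
      refine ⟨W.map (MulAut.conj n⁻¹).toMonoidHom, ⟨hframe _ (inv_mem hn) W hW, ?_⟩, ?_⟩
      · rw [mem_map_conj, inv_inv]; exact hu'
      · rw [map_conj_mul, mul_inv_cancel]; ext y; simp
  haveI : Fintype G := Fintype.ofFinite G
  haveI : Fintype (Subgroup G) := Fintype.ofFinite _
  set Ff : Finset (Subgroup G) := Finset.univ.filter (· ∈ frames V A) with hFf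
  set Zf : Finset G := Finset.univ.filter (· ∈ Z) with hZf
  set Tf : Finset G := Finset.univ.filter (· ∈ T) with hTf
  have hFc : Ff.card = (frames V A).ncard := by
    rw [Set.ncard_eq_toFinset_card', hFf]; congr 1; ext; simp
  have hZc : Zf.card = Z.ncard := by rw [Set.ncard_eq_toFinset_card', hZf]; congr 1; ext; simp
  have hTc : Tf.card = T.ncard := by rw [Set.ncard_eq_toFinset_card', hTf]; congr 1; ext; simp
  set k := (frames V A).ncard
  have hdouble : Zf.card * r = k * 35 := by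
    rw [← hFc]
    refine Finset.card_mul_eq_card_mul (fun (u : G) (W : Subgroup G) => u ∈ W) (fun u hu => ?_) (fun W hW => ?_)
    · rw [← hconst u (Finset.mem_filter.1 hu).2, Set.ncard_eq_toFinset_card']
      congr 1; ext W; simp [hFf, Finset.bipartiteAbove]
    · rw [← (hperW W (Finset.mem_filter.1 hW).2).1, Set.ncard_eq_toFinset_card']
      congr 1; ext u; simp [hZf, Finset.bipartiteBelow]
  have hT28 : Tf.card * 1 = k * 28 := by
    rw [← hFc]
    refine Finset.card_mul_eq_card_mul (fun (u : G) (W : Subgroup G) => u ∈ W) (fun u hu => ?_) (fun W hW => ?_)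
    · obtain ⟨hu', hu1, huc⟩ := (Finset.mem_filter.1 hu).2
      obtain ⟨W, hW, hWu⟩ := huniq u hu' hu1 huc
      rw [Finset.card_eq_one]
      refine ⟨W, ?_⟩
      ext W'
      simp only [hFf, Finset.bipartiteAbove, Finset.mem_filter, Finset.mem_univ, true_and,
        Finset.mem_singleton]
      exact ⟨fun h => hWu W' h, fun h => h ▸ hW⟩
    · rw [← (hperW W (Finset.mem_filter.1 hW).2).2, Set.ncard_eq_toFinset_card']
      congr 1; ext u; simp [hTf, Finset.bipartiteBelow]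
  have htot : Z.ncard + T.ncard = 1023 := by
    rw [← Set.ncard_union_eq (Set.disjoint_left.2 fun u h h' => h'.2.2 h.2) (Set.toFinite _) (Set.toFinite _)]
    have hu : Z ∪ T = (A : Set G) \ {1} := by
      ext u
      simp only [hZdef, hTdef, zPart, Set.mem_union, Set.mem_setOf_eq, Set.mem_sdiff, SetLike.mem_coe,
        Set.mem_singleton_iff]
      constructor
      · rintro (⟨h, hc⟩ | ⟨h, h1, -⟩)
        · exact ⟨h, fun e => hnotz1 (e ▸ hc)⟩
        · exact ⟨h, h1⟩
      · rintro ⟨h, h1⟩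
        by_cases hc : IsConj z u
        · exact Or.inl ⟨h, hc⟩
        · exact Or.inr ⟨h, h1, hc⟩
    rw [hu, Set.ncard_sdiff (by simp) (Set.toFinite _), Set.ncard_singleton, ← Nat.card_coe_set_eq,
      SetLike.coe_sort_coe, hA.card]
    norm_num
  rw [hZc] at hdouble
  rw [hTc, mul_one] at hT28
  have hr1 : 1 ≤ r :=
    (Set.ncard_pos (Set.toFinite _)).2 ⟨V, hV, (Subgroup.mem_inf.1 hu₀.1).2⟩
  have hrk : r ≤ k := Set.ncard_le_ncard (fun W hW => hW.1) (Set.toFinite _)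
  obtain ⟨hk31, hr7⟩ := arith ⟨k, by omega⟩ ⟨r, by omega⟩ hrk hr1 (by
    show 35 * k = (1023 - 28 * k) * r
    have e : Z.ncard = 1023 - 28 * k := by omega
    rw [← e]; omega)
  have hk31 : k = 31 := hk31
  have hr7 : r = 7 := hr7
  rw [hr7, hk31] at hdouble
  rw [hk31] at hT28
  exact
    { ten := hA
      above := O
      card_inf := O.card_inf M hA
      outside := fun x y hx hy => O.outside_mem_normalizer M hA hx hy
      image := O.image_normalizer M hA
      lift := fun s hs => O.exists_lift M hA hs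
      card_z := by show Z.ncard = 155; omega
      card_other := by show T.ncard = 868; omega
      trans_z := htz
      trans_other := htrans_o
      card_z_inf := hz35
      card_frames := hk31
      trans_frames := htr
      unique_frame := huniq
      z_frames := fun u hu => (hconst u hu).trans hr7 }

/-- The orbit sizes on any self-centralizing `2 ^ 10`. -/
theorem orbit_sizes (M : Model z V p q) (Γ : Global z V) {A : Subgroup G} (hA : IsTen A) :
    ∃ a b : G, a ∈ A ∧ b ∈ A ∧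
      Set.ncard {v : G | ∃ n ∈ Subgroup.normalizer (A : Set G), n * a * n⁻¹ = v} = 155 ∧
      Set.ncard {v : G | ∃ n ∈ Subgroup.normalizer (A : Set G), n * b * n⁻¹ = v} = 868 := by
  have hAp : IsPGroup 2 ↥A := fun a => ⟨1, Subtype.ext (by rw [pow_one]; exact hA.elem.2 a.1 a.2)⟩
  obtain ⟨g, hg⟩ := Γ.sylow A hAp
  set B := A.map (MulAut.conj g).toMonoidHom
  obtain ⟨o, O⟩ := exists_orbits M Γ (hA.conj g) hg
  obtain ⟨u, hu⟩ : (zPart z B).Nonempty := Set.nonempty_of_ncard_ne_zero (by rw [O.card_z]; norm_num)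
  obtain ⟨v, hv⟩ : {v | v ∈ B ∧ v ≠ 1 ∧ ¬ IsConj z v}.Nonempty :=
    Set.nonempty_of_ncard_ne_zero (by rw [O.card_other]; norm_num)
  have hnorm : ∀ n, n ∈ Subgroup.normalizer (B : Set G) ↔
      g⁻¹ * n * g ∈ Subgroup.normalizer (A : Set G) := fun n => by
    rw [← map_conj_eq_iff, ← map_conj_eq_iff, map_conj_mul]
    constructor
    · intro h
      rw [show g⁻¹ * n * g = g⁻¹ * (n * g) by group, ← map_conj_mul, h, map_conj_mul, inv_mul_cancel]
      ext y; simp
    · intro h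
      conv_rhs => rw [show B = A.map (MulAut.conj g).toMonoidHom from rfl, ← h, map_conj_mul,
        show g * (g⁻¹ * n * g) = n * g by group]
  have horb : ∀ w : G, {x : G | ∃ n ∈ Subgroup.normalizer (A : Set G), n * (g⁻¹ * w * g) * n⁻¹ = x} =
      (fun x => g⁻¹ * x * g) '' {x : G | ∃ n ∈ Subgroup.normalizer (B : Set G), n * w * n⁻¹ = x} := by
    intro w
    ext x
    constructor
    · rintro ⟨n, hn, rfl⟩
      exact ⟨_, ⟨g * n * g⁻¹, (hnorm _).2 (by simpa [mul_assoc] using hn), rfl⟩, by group⟩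
    · rintro ⟨_, ⟨n, hn, rfl⟩, rfl⟩
      exact ⟨_, (hnorm n).1 hn, by group⟩
  have hinj : Function.Injective fun x : G => g⁻¹ * x * g := fun a b e => by simpa using e
  have hmem : ∀ w ∈ B, g⁻¹ * w * g ∈ A := fun w hw => mem_map_conj.1 hw
  refine ⟨g⁻¹ * u * g, g⁻¹ * v * g, hmem u hu.1, hmem v hv.1, ?_, ?_⟩
  · rw [horb, Set.ncard_image_of_injective _ hinj, ← O.card_z]
    congr 1
    ext x
    constructor
    · rintro ⟨n, hn, rfl⟩
      exact ⟨(Subgroup.mem_normalizer_iff.1 hn u).1 hu.1, isConj_conj_iff.2 hu.2⟩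
    · intro hx; exact O.trans_z u hu x hx
  · rw [horb, Set.ncard_image_of_injective _ hinj, ← O.card_other]
    congr 1
    ext x
    constructor
    · rintro ⟨n, hn, rfl⟩
      exact ⟨(Subgroup.mem_normalizer_iff.1 hn v).1 hv.1, fun e => hv.2.1 (conj_eq_one_iff.1 e),
        fun h => hv.2.2 (isConj_conj_iff.1 h)⟩
    · rintro ⟨h1, h2, h3⟩; exact O.trans_other v hv.1 hv.2.1 hv.2.2 x h1 h2 h3

end CfsgLib.JFour.TwoTen
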